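import Cfsg.Agent.H740.K4.Four
import Cfsg.Agent.H740.K4.Equiv
import Cfsg.Agent.H769.PB.RowCoTwo

/-!
# `Co2`: five good characters (helper345, for S4947 and S4547)

`1`, `23`, `275`, `2277` and a constituent of odd degree of `Λ²(23)` : it has no vector fixed by the group `2^10` of sign
changes, the characters `1` and `23` have one, and its degree is at most `253`.
-/

set_option autoImplicit false

namespace Cfsg.Agent.H345.K4.Co2

open Cfsg Cfsg.Spor Cfsg.Agent.H843.IMC Cfsg.Agent.H843.IMC.Syn Cfsg.Agent.H843.IMC.Lam Cfsg.Agent.H843.IMC.LamCo1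
open Cfsg.Agent.SporadicA.GolayBase Cfsg.Agent.SporadicA.GolayPerm Cfsg.Agent.SporadicStructure.M24El
open Cfsg.Agent.SporadicA.Co0Mono Cfsg.Agent.H419.LeechIrr
open Cfsg.Agent.Characters.Core Cfsg.Agent.H769.PB.Lam23
open scoped ComplexConjugate

universe u

/-! ### generalities -/

/-- `φ` is rational valued -/
def Rat {G : Type*} (φ : G → ℂ) : Prop := ∀ g, ∃ q : ℚ, φ g = q

/-- A constituent of a character whose restriction to a subgroup does not contain the trivial one. -/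
theorem sum_eq_zero_of_constituent {G E : Type*} [Group G] [Fintype G] [Group E] [Fintype E] (f : E →* G)
    {Ψ : G → ℂ} (hΨ : IsCharacter G Ψ) (h0 : ∑ e : E, Ψ (f e) = 0) (χ : IrrCharacter G)
    (hχ : classInner Ψ (χ : G → ℂ) ≠ 0) : ∑ e : E, (χ : G → ℂ) (f e) = 0 := by
  classical
  have : Finite (IrrCharacter G) := finite_irr
  have := Fintype.ofFinite (IrrCharacter G)
  have hE : (Nat.card E : ℂ) ≠ 0 := by exact_mod_cast (Nat.card_pos (α := E)).ne'
  have key : ∀ φ : G → ℂ, classInner (φ ∘ f) (1 : E → ℂ) = (Nat.card E : ℂ)⁻¹ * ∑ e : E, φ (f e) := by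
    intro φ
    rw [classInner_def]
    congr 1
    refine Finset.sum_congr rfl fun e _ => ?_
    simp
  -- the multiplicities of the trivial character
  have hn : ∀ ψ : IrrCharacter G, ∃ n : ℕ, classInner ((ψ : G → ℂ) ∘ f) (1 : E → ℂ) = n := fun ψ =>
    classInner_isNat (isCharacter_comp f (isIrr_isCharacter ψ.2)) (isIrr_isCharacter isIrr_one)
  choose n hn using hn
  have h1 : classInner (Ψ ∘ f) (1 : E → ℂ) = 0 := by rw [key, h0, mul_zero]
  have h2 := Cfsg.Agent.H740.K4.eq_sum hΨ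
  have h3 : Ψ ∘ f = ∑ ψ : IrrCharacter G, (Cfsg.Agent.H740.K4.mul Ψ ψ : ℂ) • ((ψ : G → ℂ) ∘ f) := by
    funext e
    rw [Function.comp_apply, h2, Finset.sum_apply, Finset.sum_apply]
    refine Finset.sum_congr rfl fun ψ _ => ?_
    rw [← h2, Pi.smul_apply, Pi.smul_apply, nsmul_eq_mul, smul_eq_mul]
    rfl
  rw [h3, classInner_sum_left] at h1
  have h4 : ∀ ψ : IrrCharacter G, classInner ((Cfsg.Agent.H740.K4.mul Ψ ψ : ℂ) • ((ψ : G → ℂ) ∘ f)) (1 : E → ℂ) =
      ((Cfsg.Agent.H740.K4.mul Ψ ψ * n ψ : ℕ) : ℂ) := by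
    intro ψ
    rw [classInner_smul_left, hn]
    push_cast
    ring
  rw [Finset.sum_congr rfl fun ψ _ => h4 ψ, ← Nat.cast_sum] at h1
  have h5 : ∑ ψ : IrrCharacter G, Cfsg.Agent.H740.K4.mul Ψ ψ * n ψ = 0 := by exact_mod_cast h1
  have h6 := (Finset.sum_eq_zero_iff.1 h5) χ (Finset.mem_univ _)
  have h7 : Cfsg.Agent.H740.K4.mul Ψ χ ≠ 0 := by
    intro h
    apply hχ
    rw [Cfsg.Agent.H740.K4.mul_spec hΨ, h, Nat.cast_zero]
  have h8 : n χ = 0 := (Nat.mul_eq_zero.1 h6).resolve_left h7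
  have h9 := hn χ
  rw [h8, Nat.cast_zero, key] at h9
  exact (mul_eq_zero.1 h9).resolve_left (inv_ne_zero hE)

/-- The degree of a constituent. -/
theorem degree_le {G : Type*} [Group G] [Fintype G] {Ψ : G → ℂ} (hΨ : IsCharacter G Ψ) {N : ℕ} (hN : Ψ 1 = N)
    {χ : G → ℂ} (hχ : IsIrrCharacter G χ) (h : classInner Ψ χ ≠ 0) : charDegree χ ≤ N := by
  classical
  have : Finite (IrrCharacter G) := finite_irr
  have := Fintype.ofFinite (IrrCharacter G)
  have h2 := congrFun (Cfsg.Agent.H740.K4.eq_sum hΨ) 1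
  rw [Finset.sum_apply, hN] at h2
  have h3 : ∀ ψ : IrrCharacter G, (Cfsg.Agent.H740.K4.mul Ψ ψ • (ψ : G → ℂ)) 1 =
      ((Cfsg.Agent.H740.K4.mul Ψ ψ * charDegree (ψ : G → ℂ) : ℕ) : ℂ) := by
    intro ψ
    rw [Pi.smul_apply, Cfsg.Agent.Blocks.Basic.irr_one_eq_charDegree ψ.2, nsmul_eq_mul, Nat.cast_mul]
  rw [Finset.sum_congr rfl fun ψ _ => h3 ψ] at h2
  have h4 : N = ∑ ψ : IrrCharacter G, Cfsg.Agent.H740.K4.mul Ψ ψ * charDegree (ψ : G → ℂ) := by exact_mod_cast h2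
  have h5 : Cfsg.Agent.H740.K4.mul Ψ ⟨χ, hχ⟩ ≠ 0 := by
    intro h0
    apply h
    have h6 := Cfsg.Agent.H740.K4.mul_spec hΨ ⟨χ, hχ⟩
    rw [h0, Nat.cast_zero] at h6
    exact h6
  rw [h4]
  refine le_trans ?_ (Finset.single_le_sum (f := fun ψ : IrrCharacter G =>
    Cfsg.Agent.H740.K4.mul Ψ ψ * charDegree (ψ : G → ℂ)) (fun _ _ => Nat.zero_le _)
    (Finset.mem_univ (⟨χ, hχ⟩ : IrrCharacter G)))
  exact Nat.le_mul_of_pos_left _ (Nat.pos_of_ne_zero h5)

/-! ### the 23-dimensional representation -/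

theorem Rat.int (m : ℤ) : ∃ q : ℚ, (m : ℂ) = q := ⟨m, by push_cast; rfl⟩

theorem bm_rat (g : Co0) (i j : I) : ∃ q : ℚ, bm g i j = q := by
  have h : ∀ a b, ∃ q : ℚ, matC g a b = q := by
    intro a b
    refine ⟨(((g • Cfsg.Agent.SporadicStructure.Co0Base.e8 b : leechLattice) : GolayPt → ℤ) a : ℚ) / 8, ?_⟩
    rw [matC_apply]
    push_cast
    rfl
  unfold bm
  obtain ⟨q1, h1⟩ := h i.1 j.1
  obtain ⟨q2, h2⟩ := h none j.1
  split_ifs
  · exact ⟨q1 - q2, by rw [h1, h2]; push_cast; rfl⟩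
  · exact ⟨q1, by rw [h1, sub_zero]⟩

theorem altk_rat {J : Type*} [Fintype J] [DecidableEq J] (k : ℕ) (A : Matrix J J ℂ)
    (h : ∀ i j, ∃ q : ℚ, A i j = q) : ∃ q : ℚ, altk k A = q := by
  choose q hq using h
  refine ⟨((k.factorial : ℚ))⁻¹ * ∑ i : Fin k → J, ∑ σ : Equiv.Perm (Fin k), ((Equiv.Perm.sign σ : ℤ) : ℚ) *
    ∏ t, q (i (σ t)) (i t), ?_⟩
  rw [altk_eq]
  push_cast
  congr 1
  refine Finset.sum_congr rfl fun i _ => Finset.sum_congr rfl fun σ _ => ?_
  congr 1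
  exact Finset.prod_congr rfl fun t _ => hq _ _

/-- The character of the exterior square. -/
noncomputable def W2 (g : Spor.Co2) : ℂ := altk 2 (bH g)

theorem isCharacter_W2 : IsCharacter Spor.Co2 W2 := isCharacter_altk 2 bH

theorem W2_rat : Rat W2 := fun g => altk_rat 2 (bH g) fun i j => bm_rat _ i j

theorem W2_one : W2 1 = (253 : ℕ) := by
  unfold W2
  rw [map_one, altk_one, card_I]
  norm_num [Nat.factorial, Nat.descFactorial]

/-- The character of degree 23 and the matrices. -/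
theorem trace_bH {μ : IrrCharacter Spor.Co2}
    (hμ : ∀ g, lchi Cfsg.Agent.H419.Spor.Co2.inc g = 1 + (μ : Spor.Co2 → ℂ) g) (γ : Spor.Co2) :
    (μ : Spor.Co2 → ℂ) γ = Matrix.trace (bH γ) := by
  have hg : LamCo2.inc γ • Spor.leechU = Spor.leechU := γ.2.2
  have h1 : lchi Cfsg.Agent.H419.Spor.Co2.inc γ = Matrix.trace (matC (LamCo2.inc γ)) := by
    have h2 : Cfsg.Agent.H419.Spor.Co2.inc γ = Cfsg.Agent.H419.Spor.Co2.c * LamCo2.inc γ * Cfsg.Agent.H419.Spor.Co2.c⁻¹ := rfl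
    have h3 : lchi Cfsg.Agent.H419.Spor.Co2.inc γ = Matrix.trace (matC (Cfsg.Agent.H419.Spor.Co2.inc γ)) := by
      have h4 := trace_repC (Cfsg.Agent.H419.Spor.Co2.inc γ)
      rw [lchi, ← h4]
      show LinearMap.trace ℂ _ (Matrix.toLin' (matC _)) = _
      rw [Matrix.trace_toLin'_eq]
    rw [h3, h2, matC_mul, matC_mul, Matrix.trace_mul_comm, ← mul_assoc, ← matC_mul, inv_mul_cancel, matC_one, one_mul]
  have h2 := hμ γ
  rw [h1] at h2
  have h3 : (μ : Spor.Co2 → ℂ) γ = Matrix.trace (matC (LamCo2.inc γ)) - 1 := by rw [h2]; ring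
  rw [h3]
  have h4 : Matrix.trace (bH γ) = ∑ i : I, (matC (LamCo2.inc γ) i.1 i.1 -
      if i.1 = some 0 then matC (LamCo2.inc γ) none i.1 else 0) := rfl
  rw [h4, Finset.sum_sub_distrib]
  have h5 : ∑ i : I, (if i.1 = some 0 then matC (LamCo2.inc γ) none i.1 else 0) =
      matC (LamCo2.inc γ) none (some 0) := by
    rw [Finset.sum_eq_single (⟨some 0, by simp⟩ : I)]
    · rw [if_pos rfl]
    · intro b _ hb
      rw [if_neg (fun h => hb (Subtype.ext h))]
    · intro h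
      exact absurd (Finset.mem_univ _) h
  have h6 : Matrix.trace (matC (LamCo2.inc γ)) = matC (LamCo2.inc γ) none none +
      ∑ i : I, matC (LamCo2.inc γ) i.1 i.1 := by
    rw [Matrix.trace]
    exact Fintype.sum_eq_add_sum_subtype_ne _ none
  have h7 := fix_sum hg none
  rw [if_pos rfl, if_neg (by simp), add_zero] at h7
  rw [h5, h6]
  linear_combination h7

/-! ### the group of sign changes -/

section

theorem sgnC_add (a b : ZMod 2) : sgnC (a + b) = sgnC a * sgnC b := by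
  have h := sgnC_sum ![a, b]
  simpa [Fin.sum_univ_two, Fin.prod_univ_two] using h

/-- The coordinate of a word, as a sign. -/
noncomputable def s (i : GolayPt) (e : Multiplicative LamCo2.C2) : ℂ :=
  sgnC (((e.toAdd : golayCode) : GolayPt → ZMod 2) i)

theorem s_mul (i : GolayPt) (e f : Multiplicative LamCo2.C2) : s i (e * f) = s i e * s i f := by
  unfold s
  rw [← sgnC_add]
  rfl

theorem sum_of_ne {i j : GolayPt} [Fintype (Multiplicative LamCo2.C2)] (h : ∃ e, s i e ≠ s j e) :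
    ∑ e, s i e * s j e = 0 := by
  obtain ⟨f, hf⟩ := h
  have h1 : ∑ e, s i e * s j e = (s i f * s j f) * ∑ e, s i e * s j e := by
    rw [Finset.mul_sum, ← Equiv.sum_comp (Equiv.mulLeft f)]
    refine Finset.sum_congr rfl fun e _ => ?_
    rw [Equiv.coe_mulLeft, s_mul, s_mul]
    ring
  have h2 : s i f * s j f ≠ 1 := by
    intro h3
    apply hf
    have hsq : s j f * s j f = 1 := by
      unfold s
      rw [← sgnC_add, CharTwo.add_self_eq_zero, sgnC_zero]
    calc s i f = s i f * (s j f * s j f) := by rw [hsq, mul_one]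
      _ = s j f := by rw [← mul_assoc, h3, one_mul]
  have h3 : (1 - s i f * s j f) * ∑ e, s i e * s j e = 0 := by linear_combination h1
  exact (mul_eq_zero.1 h3).resolve_left (sub_ne_zero.2 h2.symm)

theorem sep_chk : ((List.range 23).all fun a => (List.range 23).all fun b => Nat.beq a b ||
    LamCo2.masks.any fun m => m.testBit a != m.testBit b) = true := by decide +kernel

theorem idx_lt23 {i : GolayPt} (hi : i ≠ none) : idx i < 23 := by
  have h1 := idx_lt i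
  have h2 : idx i ≠ 23 := fun h => hi (idx_injective (by rw [h]; rfl))
  omega

theorem exists_ne {i j : GolayPt} (hi : i ≠ none) (hj : j ≠ none) (hij : i ≠ j) : ∃ e, s i e ≠ s j e := by
  have h1 := List.all_eq_true.1 (List.all_eq_true.1 sep_chk _ (List.mem_range.2 (idx_lt23 hi))) _
    (List.mem_range.2 (idx_lt23 hj))
  rw [Bool.or_eq_true] at h1
  rcases h1 with h1 | h1
  · exact absurd (idx_injective (Nat.eq_of_beq_eq_true h1)) hij
  obtain ⟨m, hm, hne⟩ := List.any_eq_true.1 h1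
  obtain ⟨e, he⟩ := LamCo2.mem_of_mem_masks hm
  refine ⟨e, fun h => ?_⟩
  have h2 := sgnC_injective h
  have h3 : ∀ p, ((e.toAdd : golayCode) : GolayPt → ZMod 2) p = word m p := fun p => congrFun he p
  rw [h3, h3, word_apply, word_apply] at h2
  revert hne h2
  cases m.testBit (idx i) <;> cases m.testBit (idx j) <;> simp

theorem sum_mul {i j : GolayPt} [Fintype (Multiplicative LamCo2.C2)] (hi : i ≠ none) (hj : j ≠ none) (hij : i ≠ j) :
    ∑ e, s i e * s j e = 0 := sum_of_ne (exists_ne hi hj hij)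

theorem s_zero (e : Multiplicative LamCo2.C2) : s (some 0) e = 1 := by
  unfold s
  have h : ((e.toAdd : golayCode) : GolayPt → ZMod 2) (some 0) = 0 := e.toAdd.2.2
  rw [h, sgnC_zero]

/-- The exterior square does not contain the trivial character of the group of sign changes. -/
theorem sum_W2 [Fintype (Multiplicative LamCo2.C2)] : ∑ e, W2 (LamCo2.sg e) = 0 := by
  have h1 : ∀ e, W2 (LamCo2.sg e) = ((Nat.factorial 2 : ℂ))⁻¹ *
      ∑ i : Fin 2 → I, (if Function.Injective i then (1 : ℂ) else 0) * (s (i 0).1 e * s (i 1).1 e) := by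
    intro e
    unfold W2
    rw [bH_sg, altk_diagonal]
    congr 1
    refine Finset.sum_congr rfl fun i _ => ?_
    rw [Fin.prod_univ_two]
    rfl
  rw [Finset.sum_congr rfl fun e _ => h1 e, ← Finset.mul_sum, Finset.sum_comm, Finset.sum_eq_zero, mul_zero]
  intro i _
  rw [← Finset.mul_sum]
  by_cases hi : Function.Injective i
  · rw [sum_mul (i 0).2 (i 1).2, mul_zero]
    intro h
    have h2 := hi (Subtype.ext h)
    exact absurd h2 (by decide)
  · rw [if_neg hi, zero_mul]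

/-- The character of degree 23 contains the trivial character of the group of sign changes once. -/
theorem sum_mu {μ : IrrCharacter Spor.Co2}
    (hμ : ∀ g, lchi Cfsg.Agent.H419.Spor.Co2.inc g = 1 + (μ : Spor.Co2 → ℂ) g)
    [Fintype (Multiplicative LamCo2.C2)] : ∑ e, (μ : Spor.Co2 → ℂ) (LamCo2.sg e) = Fintype.card (Multiplicative LamCo2.C2) := by
  have h1 : ∀ e, (μ : Spor.Co2 → ℂ) (LamCo2.sg e) = ∑ i : I, s i.1 e := by
    intro e
    rw [trace_bH hμ, bH_sg, Matrix.trace_diagonal]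
    rfl
  rw [Finset.sum_congr rfl fun e _ => h1 e, Finset.sum_comm, Finset.sum_eq_single (⟨some 0, by simp⟩ : I)]
  · rw [Finset.sum_congr rfl fun e _ => s_zero e, Finset.sum_const, Finset.card_univ, nsmul_eq_mul, mul_one]
  · intro b _ hb
    have h2 := sum_mul (i := b.1) (j := some 0) b.2 (by simp) (fun h => hb (Subtype.ext h))
    rw [← h2]
    exact Finset.sum_congr rfl fun e _ => by rw [s_zero, mul_one]
  · intro h
    exact absurd (Finset.mem_univ _) h

end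

/-! ### the characters of degree 275 and 2277 -/

theorem mu_rat {μ : IrrCharacter Spor.Co2}
    (hμ : ∀ g, lchi Cfsg.Agent.H419.Spor.Co2.inc g = 1 + (μ : Spor.Co2 → ℂ) g) : Rat (μ : Spor.Co2 → ℂ) := by
  intro g
  rw [trace_bH hμ]
  have h : ∀ i, ∃ q : ℚ, bH g i i = q := fun i => bm_rat _ i i
  choose q hq using h
  refine ⟨∑ i, q i, ?_⟩
  rw [Matrix.trace]
  push_cast
  exact Finset.sum_congr rfl fun i _ => hq i

section

open MulAction Cfsg.Agent.SporadicStructure.Co2RankThree Cfsg.Agent.H133.PB Cfsg.Agent.H843.IMC.Co2B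
open Cfsg.Agent.H713.Spor.RankThree (pc inner_pc_one inner_pc_self pc_one inner_ne)

/-- The character of degree 2277 is rational (proof of `H843.IMC.Co2B.hasDeg_2277`). -/
theorem exists_2277 : ∃ χ : IrrCharacter Spor.Co2, charDegree (χ : Spor.Co2 → ℂ) = 2277 ∧
    Rat (χ : Spor.Co2 → ℂ) := by
  classical
  have := Fintype.ofFinite Spor.Co2
  have := Fintype.ofFinite Y
  have hne : Nonempty X := ⟨⟨y1, y1_mem_A⟩⟩
  have hne' : Nonempty Y := ⟨mk ⟨y1, y1_mem_A⟩⟩
  obtain ⟨χ₁, χ₂, h1, h2, h3⟩ := Cfsg.Agent.H843.IMC.Co2A.of_R3 Cfsg.Agent.H843.IMC.Co2A.card_co2 r3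
  obtain ⟨μ, hμ⟩ := Cfsg.Agent.H843.IMC.Co2A.exists_mu
  have hμ23 : charDegree (μ : Spor.Co2 → ℂ) = 23 := by
    obtain ⟨μ', h'⟩ := Cfsg.Agent.H843.IMC.Co2A.hasDeg_23
    have h4 := hμ 1
    have h6 : Cfsg.Agent.H419.LeechIrr.lchi Cfsg.Agent.H419.Spor.Co2.inc 1 = 24 := by
      rw [Cfsg.Agent.H419.LeechIrr.lchi, map_one, Cfsg.Agent.SigZeroCo2.Lin.tr8_one]
      norm_num
    rw [h6, Cfsg.Agent.Blocks.Basic.irr_one_eq_charDegree μ.2] at h4
    have : (24 : ℂ) = ((1 + charDegree (μ : Spor.Co2 → ℂ) : ℕ) : ℂ) := by rw [h4]; push_cast; ring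
    have h9 : 24 = 1 + charDegree (μ : Spor.Co2 → ℂ) := by exact_mod_cast this
    omega
  have ne_of_deg : ∀ {α β : IrrCharacter Spor.Co2}, charDegree (α : Spor.Co2 → ℂ) ≠ charDegree (β : Spor.Co2 → ℂ) →
      (α : Spor.Co2 → ℂ) ≠ β := by
    intro α β h hcon
    exact h (by rw [hcon])
  have hone : charDegree (1 : Spor.Co2 → ℂ) = 1 := by
    unfold charDegree
    simp
  have hμ1 : (μ : Spor.Co2 → ℂ) ≠ 1 := by
    intro h
    rw [h, hone] at hμ23
    omega
  have hχ1 : (χ₁ : Spor.Co2 → ℂ) ≠ 1 := by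
    intro h
    rw [h, hone] at h1
    omega
  have hχ2 : (χ₂ : Spor.Co2 → ℂ) ≠ 1 := by
    intro h
    rw [h, hone] at h2
    omega
  have h12 : (χ₁ : Spor.Co2 → ℂ) ≠ χ₂ := ne_of_deg (by rw [h1, h2]; norm_num)
  have h1μ : (χ₁ : Spor.Co2 → ℂ) ≠ μ := ne_of_deg (by rw [h1, hμ23]; norm_num)
  have h2μ : (χ₂ : Spor.Co2 → ℂ) ≠ μ := ne_of_deg (by rw [h2, hμ23]; norm_num)
  -- the permutation character of the pairs
  have hY : pc Spor.Co2 Y = 1 + (χ₁ : Spor.Co2 → ℂ) + (χ₂ : Spor.Co2 → ℂ) := by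
    funext g
    exact h3 g
  have hYY : classInner (pc Spor.Co2 Y) (pc Spor.Co2 Y) = 3 := by
    rw [hY]
    simp only [classInner_add_left, classInner_add_right]
    rw [classInner_irr_self isIrr_one, classInner_irr_self χ₁.2, classInner_irr_self χ₂.2,
      classInner_irr_ne isIrr_one χ₁.2 hχ1.symm, classInner_irr_ne isIrr_one χ₂.2 hχ2.symm,
      classInner_irr_ne χ₁.2 isIrr_one hχ1, classInner_irr_ne χ₂.2 isIrr_one hχ2,
      classInner_irr_ne χ₁.2 χ₂.2 h12, classInner_irr_ne χ₂.2 χ₁.2 h12.symm]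
    norm_num
  have hYμ : classInner (pc Spor.Co2 Y) (μ : Spor.Co2 → ℂ) = 0 := by
    rw [hY]
    simp only [classInner_add_left]
    rw [classInner_irr_ne isIrr_one μ.2 hμ1.symm, classInner_irr_ne χ₁.2 μ.2 h1μ, classInner_irr_ne χ₂.2 μ.2 h2μ]
    norm_num
  have hμY : classInner (μ : Spor.Co2 → ℂ) (pc Spor.Co2 Y) = 0 := by
    rw [← classInner_conj_symm, hYμ, map_zero]
  -- the numbers of orbits
  obtain ⟨N1, hN1⟩ : ∃ n : ℕ, n = Nat.card (Quotient (orbitRel Spor.Co2 (X × X))) := ⟨_, rfl⟩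
  obtain ⟨N2, hN2⟩ : ∃ n : ℕ, n = Nat.card (Quotient (orbitRel Spor.Co2 (X × Y))) := ⟨_, rfl⟩
  have hN1' : N1 ≤ 5 := by rw [hN1]; exact rank_le
  have hN3 : Nat.card (Quotient (orbitRel Spor.Co2 (Y × Y))) = 3 := by
    have h4 := inner_pc_self (G := Spor.Co2) Y
    rw [hYY] at h4
    exact_mod_cast h4.symm
  have hN2' : 3 ≤ N2 := by rw [hN2, ← hN3]; exact rank_mono
  have hXX : classInner (pc Spor.Co2 X) (pc Spor.Co2 X) = N1 := by rw [hN1]; exact inner_pc_self X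
  have hXY : classInner (pc Spor.Co2 X) (pc Spor.Co2 Y) = N2 := by rw [hN2]; exact inner_pc_pc X Y
  have hYX : classInner (pc Spor.Co2 Y) (pc Spor.Co2 X) = N2 := by
    rw [← classInner_conj_symm, hXY, Complex.conj_natCast]
  -- the character of degree 23
  have hXμ : classInner (pc Spor.Co2 X) (μ : Spor.Co2 → ℂ) ≠ 0 := by
    refine inner_ne Cfsg.Agent.H419.Spor.Co2.inc μ hμ1 (d := 1) (fun g => by rw [hμ g]; norm_num) X
      (fun x => Cfsg.Agent.H419.Spor.Co2.c • x.1) ?_ ?_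
    · intro γ x
      show Cfsg.Agent.H419.Spor.Co2.c • (toCo0 γ • x.1) =
        (Cfsg.Agent.H419.Spor.Co2.c * toCo0 γ * Cfsg.Agent.H419.Spor.Co2.c⁻¹) • Cfsg.Agent.H419.Spor.Co2.c • x.1
      rw [mul_smul, mul_smul, inv_smul_smul]
    · intro x
      obtain ⟨γ, hγ⟩ := exists_smul x (op x)
      refine ⟨γ, fun hcon => op_ne x ?_⟩
      rw [← hγ]
      apply Subtype.ext
      have h4 : Cfsg.Agent.H419.Spor.Co2.inc γ • Cfsg.Agent.H419.Spor.Co2.c • x.1 =
          Cfsg.Agent.H419.Spor.Co2.c • (toCo0 γ • x.1) := by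
        show (Cfsg.Agent.H419.Spor.Co2.c * toCo0 γ * Cfsg.Agent.H419.Spor.Co2.c⁻¹) • Cfsg.Agent.H419.Spor.Co2.c • x.1 = _
        rw [mul_smul, mul_smul, inv_smul_smul]
      rw [h4] at hcon
      exact MulAction.injective Cfsg.Agent.H419.Spor.Co2.c hcon
  obtain ⟨m, hm⟩ := classInner_isNat (Cfsg.Agent.S0157.isCharacter_fixedBy (G := Spor.Co2) X) (isIrr_isCharacter μ.2)
  change classInner (pc Spor.Co2 X) μ = m at hm
  have hm0 : m ≠ 0 := by
    rintro rfl
    exact hXμ (by rw [hm]; norm_num)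
  have hm' : classInner (μ : Spor.Co2 → ℂ) (pc Spor.Co2 X) = m := by
    rw [← classInner_conj_symm, hm, Complex.conj_natCast]
  -- the difference
  set ψ : Spor.Co2 → ℂ := pc Spor.Co2 X - (pc Spor.Co2 Y + (μ : Spor.Co2 → ℂ)) with hψ
  have hgen : IsGeneralizedCharacter Spor.Co2 ψ := by
    rw [isGeneralizedCharacter_def]
    exact ⟨_, _, Cfsg.Agent.S0157.isCharacter_fixedBy X,
      isCharacter_add (Cfsg.Agent.S0157.isCharacter_fixedBy Y) (isIrr_isCharacter μ.2), rfl⟩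
  have hval : ψ 1 = 2277 := by
    rw [hψ, Pi.sub_apply, Pi.add_apply, pc_one, pc_one, card_X, card_Y,
      Cfsg.Agent.Blocks.Basic.irr_one_eq_charDegree μ.2, hμ23]
    norm_num
  have hnorm : classInner ψ ψ = (((N1 : ℤ) - 2 * N2 + 4 - 2 * m : ℤ) : ℂ) := by
    rw [hψ]
    simp only [classInner_sub_left, classInner_sub_right, classInner_add_left, classInner_add_right]
    rw [hXX, hXY, hYX, hYY, hm, hm', hYμ, hμY, classInner_irr_self μ.2]
    push_cast
    ring
  have hpos : ψ ≠ 0 := by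
    intro h
    rw [h, Pi.zero_apply] at hval
    norm_num at hval
  have hnonneg : 0 < (N1 : ℤ) - 2 * N2 + 4 - 2 * m := by
    have h4 := classInner_self_eq_ofReal ψ
    rw [hnorm] at h4
    have h5 : (((N1 : ℤ) - 2 * N2 + 4 - 2 * m : ℤ) : ℝ) =
        (Nat.card Spor.Co2 : ℝ)⁻¹ * ∑ g : Spor.Co2, Complex.normSq (ψ g) := by exact_mod_cast h4
    have h6 : (0 : ℝ) ≤ (((N1 : ℤ) - 2 * N2 + 4 - 2 * m : ℤ) : ℝ) := by
      rw [h5]
      exact mul_nonneg (by positivity) (Finset.sum_nonneg fun _ _ => Complex.normSq_nonneg _)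
    have h7 : (0 : ℤ) ≤ (N1 : ℤ) - 2 * N2 + 4 - 2 * m := by exact_mod_cast h6
    refine lt_of_le_of_ne h7 fun h8 => hpos ?_
    apply classInner_self_eq_zero
    rw [hnorm, ← h8]
    norm_num
  have hone' : (N1 : ℤ) - 2 * N2 + 4 - 2 * m = 1 := by omega
  rw [hone'] at hnorm
  rcases isIrr_of_generalized hgen (by rw [hnorm]; norm_num) with h | h
  · refine ⟨⟨ψ, h⟩, Cfsg.Agent.H670.PSing.charDegree_eq_of (by show ψ 1 = _; rw [hval]; norm_num), fun g => ?_⟩
    obtain ⟨q, hq⟩ := mu_rat hμ g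
    refine ⟨(Nat.card (fixedBy X g) : ℚ) - ((Nat.card (fixedBy Y g) : ℚ) + q), ?_⟩
    show ψ g = _
    rw [hψ, Pi.sub_apply, Pi.add_apply, hq]
    push_cast
    rfl
  · exfalso
    obtain ⟨n, hn, hn'⟩ := isIrr_apply_one h
    rw [Pi.neg_apply, hval] at hn'
    have h4 : ((n : ℤ) : ℂ) + ((2277 : ℤ) : ℂ) = 0 := by
      push_cast
      rw [← hn']
      ring
    have h5 : (n : ℤ) + 2277 = 0 := by exact_mod_cast h4
    omega

theorem exists_275 : ∃ χ : Spor.Co2 → ℂ, H601.K4.Good χ ∧ charDegree χ = 275 := by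
  classical
  have := Fintype.ofFinite Y
  have := Fintype.ofFinite Spor.Co2
  obtain ⟨χ₁, χ₂, h1, h2, h3⟩ := Cfsg.Agent.H843.IMC.Co2A.of_R3 Cfsg.Agent.H843.IMC.Co2A.card_co2 r3
  have hΨ : IsCharacter Spor.Co2 ((χ₁ : Spor.Co2 → ℂ) + (χ₂ : Spor.Co2 → ℂ)) :=
    isCharacter_add (isIrr_isCharacter χ₁.2) (isIrr_isCharacter χ₂.2)
  obtain ⟨χ, hg, -, m, hm, hm'⟩ := H740.K4.exists_good_of_rat hΨ (n := 2299) (by
      rw [Pi.add_apply, Cfsg.Agent.Blocks.Basic.irr_one_eq_charDegree χ₁.2,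
        Cfsg.Agent.Blocks.Basic.irr_one_eq_charDegree χ₂.2, h1, h2]
      norm_num) (by decide) (fun g => ⟨(Nat.card (fixedBy Y g) : ℚ) - 1, by
      have h4 := h3 g
      rw [Pi.add_apply]
      push_cast
      linear_combination -h4⟩)
  rw [classInner_add_left] at hm'
  by_cases e1 : (χ₁ : Spor.Co2 → ℂ) = χ
  · exfalso
    apply hg.odd.2
    rw [← e1, h1]
    norm_num
  by_cases e2 : (χ₂ : Spor.Co2 → ℂ) = χ
  · exact ⟨χ, hg, by rw [← e2, h2]⟩
  · exfalso
    rw [classInner_irr_ne χ₁.2 hg.odd.1 e1, classInner_irr_ne χ₂.2 hg.odd.1 e2, add_zero] at hm'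
    have h4 : m = 0 := by exact_mod_cast hm'.symm
    rw [h4] at hm
    exact absurd hm (by decide)

end

/-! ### conclusion -/

theorem charDegree_one' : charDegree (fun _ : Spor.Co2 => (1 : ℂ)) = 1 := by
  unfold charDegree
  simp

/-- **Five good characters of `Co2`.** -/
theorem good5_model : H601.K4.Good5 Spor.Co2 := by
  classical
  have := Fintype.ofFinite Spor.Co2
  have := Fintype.ofFinite (Multiplicative LamCo2.C2)
  obtain ⟨μ, hμ⟩ := Cfsg.Agent.H843.IMC.Co2A.exists_mu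
  have hμd : charDegree (μ : Spor.Co2 → ℂ) = 23 := Cfsg.Agent.H769.PB.RowCoTwo.deg_mu hμ
  have gμ : H601.K4.Good (μ : Spor.Co2 → ℂ) := H740.K4.good_of_rat μ.2 (mu_rat hμ) (by rw [hμd]; decide)
  obtain ⟨α, gα, hα⟩ := exists_275
  obtain ⟨β, hβ, rβ⟩ := exists_2277
  have gβ : H601.K4.Good (β : Spor.Co2 → ℂ) := H740.K4.good_of_rat β.2 rβ (by rw [hβ]; decide)
  obtain ⟨ψ, gψ, -, m, hm, hψ⟩ := H740.K4.exists_good_of_rat isCharacter_W2 W2_one (by decide) W2_rat
  have hm0 : m ≠ 0 := by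
    rintro rfl
    exact absurd hm (by decide)
  have hne : classInner W2 ψ ≠ 0 := by
    rw [hψ]
    exact_mod_cast hm0
  -- the degree
  have hdeg : charDegree ψ ≤ 253 := degree_le isCharacter_W2 W2_one gψ.odd.1 hne
  -- the group of sign changes
  have hsum := sum_eq_zero_of_constituent LamCo2.sg isCharacter_W2 sum_W2 ⟨ψ, gψ.odd.1⟩ hne
  have hcard : (Fintype.card (Multiplicative LamCo2.C2) : ℂ) ≠ 0 := by exact_mod_cast Fintype.card_ne_zero
  have h1ψ : (fun _ : Spor.Co2 => (1 : ℂ)) ≠ ψ := by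
    rintro rfl
    apply hcard
    rw [← hsum]
    simp
  have hμψ : (μ : Spor.Co2 → ℂ) ≠ ψ := by
    intro h
    apply hcard
    rw [← hsum, ← sum_mu hμ, h]
  have key : ∀ {a b : Spor.Co2 → ℂ}, charDegree a ≠ charDegree b → a ≠ b := fun h h' => h (by rw [h'])
  refine H740.K4.good5_of H740.K4.good_one' gμ gα gβ gψ (key ?_) (key ?_) (key ?_) h1ψ (key ?_) (key ?_) hμψ (key ?_)
    (key ?_) (key ?_)
  · rw [charDegree_one', hμd]; decide
  · rw [charDegree_one', hα]; decide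
  · rw [charDegree_one', hβ]; decide
  · rw [hμd, hα]; decide
  · rw [hμd, hβ]; decide
  · rw [hα, hβ]; decide
  · rw [hα]; omega
  · rw [hβ]; omega

theorem good5_co2 {S : Type u} [Group S] (h : Spor.IsoCo2 S) : H601.K4.Good5 S := by
  obtain ⟨e⟩ := h
  have : Finite S := Finite.of_equiv _ e.symm.toEquiv
  exact H740.K4.good5_of_equiv e good5_model

end Cfsg.Agent.H345.K4.Co2
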