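import Cfsg.Agent.H843.IMC.AltK

/-!
# The trace of the fourth exterior power (helper345, for S4947 and S4547)

`altk_four`: `24 Λ⁴(A) = p₁⁴ - 6 p₁² p₂ + 3 p₂² + 8 p₁ p₃ - 6 p₄`.
-/

set_option autoImplicit false

namespace Cfsg.Agent.H345.K4.Alt4

open Cfsg.Agent.H843.IMC

variable {I : Type*} [Fintype I] [DecidableEq I]

/-- the sum over the functions -/
noncomputable def S (A : Matrix I I ℂ) (σ : Equiv.Perm (Fin 4)) : ℂ := ∑ i : Fin 4 → I, ∏ t, A (i (σ t)) (i t)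

omit [DecidableEq I] in
theorem S_conj (A : Matrix I I ℂ) (σ τ : Equiv.Perm (Fin 4)) : S A (τ * σ * τ⁻¹) = S A σ := by
  unfold S
  rw [← Equiv.sum_comp (Equiv.arrowCongr τ (Equiv.refl I)) (fun i : Fin 4 → I => ∏ t, A (i ((τ * σ * τ⁻¹) t)) (i t))]
  refine Finset.sum_congr rfl fun i _ => ?_
  rw [← Equiv.prod_comp τ]
  refine Finset.prod_congr rfl fun t _ => ?_
  simp [Equiv.arrowCongr, Equiv.Perm.mul_apply]

/-- the functions on four points -/
def e4 (I : Type*) : I × I × I × I ≃ (Fin 4 → I) where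
  toFun p := ![p.1, p.2.1, p.2.2.1, p.2.2.2]
  invFun i := (i 0, i 1, i 2, i 3)
  left_inv _ := rfl
  right_inv i := by
    funext t
    fin_cases t <;> rfl

omit [DecidableEq I] in
theorem sum4 (f : (Fin 4 → I) → ℂ) : ∑ i, f i = ∑ a, ∑ b, ∑ c, ∑ d, f ![a, b, c, d] := by
  rw [← Equiv.sum_comp (e4 I), Fintype.sum_prod_type]
  refine Finset.sum_congr rfl fun a _ => ?_
  rw [Fintype.sum_prod_type]
  refine Finset.sum_congr rfl fun b _ => ?_
  rw [Fintype.sum_prod_type]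
  rfl

omit [DecidableEq I] in
theorem S_eq (A : Matrix I I ℂ) (σ : Equiv.Perm (Fin 4)) : S A σ = ∑ a, ∑ b, ∑ c, ∑ d,
    A (![a, b, c, d] (σ 0)) a * A (![a, b, c, d] (σ 1)) b * A (![a, b, c, d] (σ 2)) c * A (![a, b, c, d] (σ 3)) d := by
  unfold S
  rw [sum4]
  simp only [Fin.prod_univ_four]
  rfl

/-- the representatives -/
def R : Fin 5 → Equiv.Perm (Fin 4) :=
  ![1, Equiv.swap 0 1, Equiv.swap 0 1 * Equiv.swap 2 3, Equiv.swap 0 1 * Equiv.swap 1 2,
    Equiv.swap 0 1 * Equiv.swap 1 2 * Equiv.swap 2 3]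

/-- the type -/
def rp (σ : Equiv.Perm (Fin 4)) : Fin 5 :=
  match (Finset.univ.filter fun t => σ t = t).card with
  | 4 => 0
  | 2 => 1
  | 1 => 3
  | _ => if σ * σ = 1 then 2 else 4

theorem conj_rp : ∀ σ : Equiv.Perm (Fin 4), ∃ τ : Equiv.Perm (Fin 4), σ = τ * R (rp σ) * τ⁻¹ := by
  decide +kernel

/-- the signs -/
def sg : Fin 5 → ℤ := ![1, -1, 1, 1, -1]

/-- the numbers -/
def nm : Fin 5 → ℕ := ![1, 6, 3, 8, 6]

theorem sign_rp : ∀ σ : Equiv.Perm (Fin 4), (Equiv.Perm.sign σ : ℤ) = sg (rp σ) := by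
  decide +kernel

theorem card_rp : ∀ j : Fin 5, (Finset.univ.filter fun σ : Equiv.Perm (Fin 4) => rp σ = j).card = nm j := by
  decide +kernel

omit [DecidableEq I] in
theorem S_rp (A : Matrix I I ℂ) (σ : Equiv.Perm (Fin 4)) : S A σ = S A (R (rp σ)) := by
  obtain ⟨τ, hτ⟩ := conj_rp σ
  conv_lhs => rw [hτ]
  exact S_conj A _ τ

theorem altk_S (A : Matrix I I ℂ) : altk 4 A = (1 / 24) * ∑ j : Fin 5, (nm j : ℂ) * ((sg j : ℂ) * S A (R j)) := by
  rw [altk_eq, Finset.sum_comm]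
  have h1 : ∑ σ : Equiv.Perm (Fin 4), ∑ i : Fin 4 → I, ((Equiv.Perm.sign σ : ℤ) : ℂ) * ∏ t, A (i (σ t)) (i t) =
      ∑ σ : Equiv.Perm (Fin 4), (fun j => ((sg j : ℤ) : ℂ) * S A (R j)) (rp σ) := by
    refine Finset.sum_congr rfl fun σ _ => ?_
    rw [← Finset.mul_sum, sign_rp]
    show _ * S A σ = _
    rw [S_rp]
  have h2 : ∑ σ : Equiv.Perm (Fin 4), (fun j => ((sg j : ℤ) : ℂ) * S A (R j)) (rp σ) =
      ∑ j : Fin 5, ∑ σ ∈ Finset.univ.filter fun σ : Equiv.Perm (Fin 4) => rp σ = j, ((sg j : ℤ) : ℂ) * S A (R j) :=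
    (Finset.sum_fiberwise' Finset.univ rp (fun j => ((sg j : ℤ) : ℂ) * S A (R j))).symm
  rw [h1, h2]
  congr 1
  · norm_num [Nat.factorial]
  · refine Finset.sum_congr rfl fun j _ => ?_
    rw [Finset.sum_const, card_rp, nsmul_eq_mul]

omit [DecidableEq I] in
theorem tr2 (A : Matrix I I ℂ) : (A * A).trace = ∑ a, ∑ b, A a b * A b a := by
  simp only [Matrix.trace, Matrix.diag_apply, Matrix.mul_apply]

omit [DecidableEq I] in
theorem tr3 (A : Matrix I I ℂ) : (A * A * A).trace = ∑ a, ∑ b, ∑ c, A a c * A c b * A b a := by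
  simp only [Matrix.trace, Matrix.diag_apply, Matrix.mul_apply, Finset.sum_mul]

omit [DecidableEq I] in
theorem tr4 (A : Matrix I I ℂ) : (A * A * A * A).trace = ∑ a, ∑ b, ∑ c, ∑ d, A a d * A d c * A c b * A b a := by
  simp only [Matrix.trace, Matrix.diag_apply, Matrix.mul_apply, Finset.sum_mul]

omit [DecidableEq I] in
theorem S0 (A : Matrix I I ℂ) : S A (R 0) = A.trace ^ 4 := by
  rw [S_eq]
  have h0 : (R 0) 0 = 0 := by decide
  have h1 : (R 0) 1 = 1 := by decide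
  have h2 : (R 0) 2 = 2 := by decide
  have h3 : (R 0) 3 = 3 := by decide
  rw [h0, h1, h2, h3]
  show ∑ a, ∑ b, ∑ c, ∑ d, A a a * A b b * A c c * A d d = _
  simp only [← Finset.mul_sum, ← Finset.sum_mul]
  show A.trace * A.trace * A.trace * A.trace = _
  ring

omit [DecidableEq I] in
theorem S1 (A : Matrix I I ℂ) : S A (R 1) = (A * A).trace * A.trace ^ 2 := by
  rw [S_eq]
  have h0 : (R 1) 0 = 1 := by decide
  have h1 : (R 1) 1 = 0 := by decide
  have h2 : (R 1) 2 = 2 := by decide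
  have h3 : (R 1) 3 = 3 := by decide
  rw [h0, h1, h2, h3, tr2]
  show ∑ a, ∑ b, ∑ c, ∑ d, A b a * A a b * A c c * A d d = _
  simp only [← Finset.mul_sum, ← Finset.sum_mul]
  show (∑ a, ∑ b, A b a * A a b) * A.trace * A.trace = _
  have : ∑ a, ∑ b, A b a * A a b = ∑ a, ∑ b, A a b * A b a :=
    Finset.sum_congr rfl fun a _ => Finset.sum_congr rfl fun b _ => mul_comm _ _
  rw [this]
  ring

omit [DecidableEq I] in
theorem S2 (A : Matrix I I ℂ) : S A (R 2) = (A * A).trace ^ 2 := by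
  rw [S_eq]
  have h0 : (R 2) 0 = 1 := by decide
  have h1 : (R 2) 1 = 0 := by decide
  have h2 : (R 2) 2 = 3 := by decide
  have h3 : (R 2) 3 = 2 := by decide
  rw [h0, h1, h2, h3, tr2]
  show ∑ a, ∑ b, ∑ c, ∑ d, A b a * A a b * A d c * A c d = _
  have h : ∀ a b c d, A b a * A a b * A d c * A c d = (A a b * A b a) * (A c d * A d c) := fun a b c d => by ring
  simp only [h, ← Finset.mul_sum, ← Finset.sum_mul]
  ring

omit [DecidableEq I] in
theorem S3 (A : Matrix I I ℂ) : S A (R 3) = (A * A * A).trace * A.trace := by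
  rw [S_eq]
  have h0 : (R 3) 0 = 1 := by decide
  have h1 : (R 3) 1 = 2 := by decide
  have h2 : (R 3) 2 = 0 := by decide
  have h3 : (R 3) 3 = 3 := by decide
  rw [h0, h1, h2, h3]
  show ∑ a, ∑ b, ∑ c, ∑ d, A b a * A c b * A a c * A d d = _
  simp only [← Finset.mul_sum, ← Finset.sum_mul]
  show (∑ a, ∑ b, ∑ c, A b a * A c b * A a c) * A.trace = _
  rw [tr3]
  congr 1
  exact Finset.sum_congr rfl fun a _ => Finset.sum_congr rfl fun b _ => Finset.sum_congr rfl fun c _ => by ring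

omit [DecidableEq I] in
theorem S4 (A : Matrix I I ℂ) : S A (R 4) = (A * A * A * A).trace := by
  rw [S_eq]
  have h0 : (R 4) 0 = 1 := by decide
  have h1 : (R 4) 1 = 2 := by decide
  have h2 : (R 4) 2 = 3 := by decide
  have h3 : (R 4) 3 = 0 := by decide
  rw [h0, h1, h2, h3, tr4]
  show ∑ a, ∑ b, ∑ c, ∑ d, A b a * A c b * A d c * A a d = _
  exact Finset.sum_congr rfl fun a _ => Finset.sum_congr rfl fun b _ => Finset.sum_congr rfl fun c _ =>
    Finset.sum_congr rfl fun d _ => by ring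

theorem altk_four (A : Matrix I I ℂ) : altk 4 A = (A.trace ^ 4 - 6 * ((A * A).trace * A.trace ^ 2) +
    3 * (A * A).trace ^ 2 + 8 * ((A * A * A).trace * A.trace) - 6 * (A * A * A * A).trace) / 24 := by
  rw [altk_S, Fin.sum_univ_five, S0, S1, S2, S3, S4]
  rw [show nm 0 = 1 from rfl, show nm 1 = 6 from rfl, show nm 2 = 3 from rfl, show nm 3 = 8 from rfl,
    show nm 4 = 6 from rfl, show sg 0 = 1 from rfl, show sg 1 = -1 from rfl, show sg 2 = 1 from rfl,
    show sg 3 = 1 from rfl, show sg 4 = -1 from rfl]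
  push_cast
  ring

end Cfsg.Agent.H345.K4.Alt4
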