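import Cfsg.Agent.H345.K4.Good13
import Cfsg.Agent.H345.K4.Alt4
import Cfsg.Agent.H345.K4.Co2
import Cfsg.Agent.H935.K4.Co1Thirteen
import Cfsg.Agent.H311.OdmRowCo1
import Cfsg.Agent.H843.IMC.Co1B
import Cfsg.Agent.H843.IMC.LamAll
import Cfsg.Agent.H740.K4.Four
import Cfsg.Agent.H740.K4.Equiv

/-!
# Five good characters of `Co1` (helper345, for S4947 and S4547)

`Λ⁴(24)` (degree `10626 = 6 · 1771`) has only constituents of degrees divisible by `1771 = 7 · 11 · 23`; the values at the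
products `z x`, `x` of order `13`, `z` an involution of the centralizer of `x` conjugate to its conjugates there,
separate one constituent of degree `1771`, which is real and fixed by the cubing automorphism; a second good character
is in the rest (degree `8855`). Together with `1` and `299`: four good characters, three of them of `23`-defect zero.
-/

set_option autoImplicit false

namespace Cfsg.Agent.H345.K4.Co1

open Cfsg Cfsg.Agent.Characters.Core Cfsg.Agent.H618.Sigma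
open Cfsg.Agent.H843.IMC Cfsg.Agent.H843.IMC.LamCo1 Cfsg.Agent.H843.IMC.LamAll Cfsg.Agent.H843.IMC.Syn
open Cfsg.Agent.SporadicA.GolayBase Cfsg.Agent.CoOneType.ClosingFacts Cfsg.Agent.H419.LeechIrr
open Cfsg.Agent.H419.Spor.Co1 (chi)
open Cfsg.Agent.H345.K4.Count13

universe u

theorem trace_matC (g : Co0) : (matC g).trace = chi g := by
  have h4 := trace_repC g
  show _ = lchi (MonoidHom.id Co0) g
  rw [lchi, MonoidHom.id_apply, ← h4]
  show _ = LinearMap.trace ℂ _ (Matrix.toLin' (matC _))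
  rw [Matrix.trace_toLin'_eq]

theorem W_four (g : Co0) : W 4 (mk g) = (chi g ^ 4 - 6 * (chi (g ^ 2) * chi g ^ 2) + 3 * chi (g ^ 2) ^ 2 +
    8 * (chi (g ^ 3) * chi g) - 6 * chi (g ^ 4)) / 24 := by
  rw [W_mk (by decide), Alt4.altk_four, ← trace_matC, ← trace_matC, ← trace_matC, ← trace_matC, pow_succ g 3,
    pow_succ g 2, pow_two g]
  simp only [matC_mul]

theorem matC_rat (g : Co0) (i j : GolayPt) : ∃ q : ℚ, matC g i j = q :=
  ⟨Cfsg.Agent.SigZeroCo2.Lin.mat g i j, by rw [matC, Matrix.map_apply]; rfl⟩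

theorem W_rat (q : Spor.Co1) : ∃ r : ℚ, W 4 q = r := Co2.altk_rat 4 _ (matC_rat _)

theorem W_one' : W 4 1 = 10626 := by
  have h1 : (1 : Spor.Co1) = mk 1 := rfl
  rw [h1, W_mk (by decide), matC_one, Cfsg.Agent.H769.PB.Lam23.altk_one]
  have h2 : Fintype.card GolayPt = 24 := by decide
  rw [h2]
  norm_num [Nat.factorial, Nat.descFactorial]

theorem dvd_deg [Fintype Spor.Co1] (ψ : IrrCharacter Spor.Co1) (hψ : classInner (W 4) (ψ : Spor.Co1 → ℂ) ≠ 0) :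
    1771 ∣ charDegree (ψ : Spor.Co1 → ℂ) := by
  have h4 : Even 4 := by decide
  have h7 : 7 ∣ charDegree (ψ : Spor.Co1 → ℂ) :=
    have : Fact (Nat.Prime 7) := ⟨by norm_num⟩
    all_co1 h4 ok7 (el_pow_eq_one ok7 pow7) chk7 ψ hψ
  have h11 : 11 ∣ charDegree (ψ : Spor.Co1 → ℂ) :=
    have : Fact (Nat.Prime 11) := ⟨by norm_num⟩
    all_co1 h4 ok11 (el_pow_eq_one ok11 pow11) chk11 ψ hψ
  have h23 : 23 ∣ charDegree (ψ : Spor.Co1 → ℂ) :=
    have : Fact (Nat.Prime 23) := ⟨by norm_num⟩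
    all_co1 h4 ok23 (el_pow_eq_one ok23 pow23) chk23 ψ hψ
  have h77 : 7 * 11 ∣ charDegree (ψ : Spor.Co1 → ℂ) := Nat.Coprime.mul_dvd_of_dvd_of_dvd (by norm_num) h7 h11
  exact Nat.Coprime.mul_dvd_of_dvd_of_dvd (m := 7 * 11) (n := 23) (by norm_num) h77 h23

theorem xi_rat {ξ : IrrCharacter Spor.Co1} (h : ∀ g : Co0, Co1B.om g = 1 + (ξ : Spor.Co1 → ℂ) (CoOneType.CoOneE.pr g))
    (q : Spor.Co1) : ∃ r : ℚ, (ξ : Spor.Co1 → ℂ) q = r := by
  obtain ⟨g, rfl⟩ := CoOneType.CoOneE.pr_surjective q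
  have h1 := h g
  refine ⟨(((Cfsg.Agent.Co2Type.Mono.tr8 g : ℚ) / 8) ^ 2 + (Cfsg.Agent.Co2Type.Mono.tr8 (g * g) : ℚ) / 8) / 2 - 1, ?_⟩
  have h2 : Co1B.om g = (((Cfsg.Agent.Co2Type.Mono.tr8 g : ℂ) / 8) ^ 2 +
    (Cfsg.Agent.Co2Type.Mono.tr8 (g * g) : ℂ) / 8) / 2 := rfl
  rw [h2] at h1
  push_cast
  linear_combination -h1

theorem good5_model : H601.K4.Good5 Spor.Co1 := by
  classical
  have hc : Nat.card Spor.Co1 = 4157776806543360000 := NotCT.Orders.co1 ⟨MulEquiv.refl _⟩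
  have hfin : Finite Spor.Co1 := Nat.finite_of_card_ne_zero (by rw [hc]; norm_num)
  have := Fintype.ofFinite Spor.Co1
  obtain ⟨k, hk⟩ := H740.K4.exists_cube Spor.Co1
  obtain ⟨a, b1, b2, b3, ha, ⟨s1, s2, s3⟩, ⟨n1, n2, n3⟩, e12, e21, ⟨n12, n13, n23⟩, ⟨c1, c2, c3⟩, ⟨k2, k3⟩, hT,
    -, ⟨t11, t12, t13, t14⟩, ⟨t21, t22, t23, t24⟩, ⟨t31, t32, t33, t34⟩⟩ := H935.K4.Co1Thirteen.thirteen_data
  have D : Data (mk a) (mk b1) (mk b2) (mk b3) :=
    ⟨ha, s1, s2, s3, e12, e21, n12, n1, n2, c1, c2, k2, k3, hT⟩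
  obtain ⟨-, n, hn⟩ := H311.OdmRowCo1.norm_data (MulEquiv.refl Spor.Co1) (z := mk a) ha
  have hval : ∀ b : Co0, mk b * mk a = mk a * mk b → chi (a * b) = 0 → chi ((a * b) ^ 2) = 2 →
      chi ((a * b) ^ 3) = 0 → chi ((a * b) ^ 4) = -2 → W 4 (mk b * mk a) = 1 := by
    intro b hb h1 h2 h3 h4
    rw [hb]
    have h5 : mk a * mk b = mk (a * b) := rfl
    rw [h5, W_four, h1, h2, h3, h4]
    norm_num
  obtain ⟨χ₀, χ₁, g0, g1, hne, d0, d1⟩ := Good13.two_good hk D hn (isCharacter_W (by decide)) W_rat W_one'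
    (hval b1 c1 t11 t12 t13 t14) (hval b2 c2 t21 t22 t23 t24) (hval b3 c3 t31 t32 t33 t34) dvd_deg
  obtain ⟨ξ, hξ, hξv⟩ := Co1B.exists_299
  have G0 := H740.K4.good_of hk χ₀.2 g0
  have G1 := H740.K4.good_of hk χ₁.2 g1
  have Gξ : H601.K4.Good (ξ : Spor.Co1 → ℂ) := H740.K4.good_of_rat ξ.2 (xi_rat hξv) (by rw [hξ]; decide)
  have hone : charDegree (fun _ : Spor.Co1 => (1 : ℂ)) = 1 := by
    unfold charDegree
    simp
  have key : ∀ {a b : Spor.Co1 → ℂ}, charDegree a ≠ charDegree b → a ≠ b := fun h h' => h (by rw [h'])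
  have : Fact (Nat.Prime 23) := ⟨by norm_num⟩
  have h23 : 23 ∣ Nat.card Spor.Co1 := by rw [hc]; norm_num
  obtain ⟨t, ht⟩ := exists_prime_orderOf_dvd_card' (G := Spor.Co1) 23 h23
  have hzero : ∀ χ : Spor.Co1 → ℂ, IsIrrCharacter Spor.Co1 χ → 23 ∣ charDegree χ → χ t = 0 := by
    intro χ hχ hd
    refine H740.K4.zero_of_dvd (p := 23) (n := 1) (by norm_num) (by rw [hc]; norm_num) (by rw [hc]; norm_num) hχ
      (Cfsg.Agent.Blocks.Basic.irr_one_eq_charDegree hχ) (by rwa [pow_one]) (by rw [ht])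
  have f0 : (fun _ : Spor.Co1 => (1 : ℂ)) ≠ (ξ : Spor.Co1 → ℂ) := key (by rw [hone, hξ]; decide)
  have f1 : (fun _ : Spor.Co1 => (1 : ℂ)) ≠ (χ₀ : Spor.Co1 → ℂ) := key (by rw [hone]; omega)
  have f2 : (fun _ : Spor.Co1 => (1 : ℂ)) ≠ (χ₁ : Spor.Co1 → ℂ) := key (by rw [hone]; omega)
  have f3 : (ξ : Spor.Co1 → ℂ) ≠ (χ₀ : Spor.Co1 → ℂ) := key (by rw [hξ]; omega)
  have f4 : (ξ : Spor.Co1 → ℂ) ≠ (χ₁ : Spor.Co1 → ℂ) := key (by rw [hξ]; omega)
  have f5 : (χ₀ : Spor.Co1 → ℂ) ≠ (χ₁ : Spor.Co1 → ℂ) := fun h => hne (Subtype.ext h)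
  refine H740.K4.good5_of_four (by rw [hc]; decide)
    (χ := ![fun _ => 1, (ξ : Spor.Co1 → ℂ), (χ₀ : Spor.Co1 → ℂ), (χ₁ : Spor.Co1 → ℂ)]) ?_ ?_ (t := t)
    (by rw [ht]; decide) (z := ![1, 0, 0, 0]) ?_ ?_
  · intro i j hij
    fin_cases i <;> fin_cases j <;> first
      | rfl
      | exact absurd hij f0
      | exact absurd hij f1
      | exact absurd hij f2
      | exact absurd hij f3
      | exact absurd hij f4
      | exact absurd hij f5
      | exact absurd hij f0.symm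
      | exact absurd hij f1.symm
      | exact absurd hij f2.symm
      | exact absurd hij f3.symm
      | exact absurd hij f4.symm
      | exact absurd hij f5.symm
  · intro i
    fin_cases i
    · exact H740.K4.good_one'
    · exact Gξ
    · exact G0
    · exact G1
  · intro i
    fin_cases i
    · show (1 : ℂ) = ((1 : ℤ) : ℂ)
      norm_num
    · show (ξ : Spor.Co1 → ℂ) t = ((0 : ℤ) : ℂ)
      rw [hzero _ ξ.2 (by rw [hξ]; decide), Int.cast_zero]
    · show (χ₀ : Spor.Co1 → ℂ) t = ((0 : ℤ) : ℂ)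
      rw [hzero _ χ₀.2 (Dvd.dvd.trans (by decide) d0), Int.cast_zero]
    · show (χ₁ : Spor.Co1 → ℂ) t = ((0 : ℤ) : ℂ)
      rw [hzero _ χ₁.2 (Dvd.dvd.trans (by decide) d1), Int.cast_zero]
  · decide

/-- **Five good characters of `Co1`.** -/
theorem good5_co1 {S : Type u} [Group S] (h : Spor.IsoCo1 S) : H601.K4.Good5 S := by
  obtain ⟨e⟩ := h
  have hc : Nat.card Spor.Co1 = 4157776806543360000 := NotCT.Orders.co1 ⟨MulEquiv.refl _⟩
  have hfin : Finite Spor.Co1 := Nat.finite_of_card_ne_zero (by rw [hc]; norm_num)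
  have : Finite S := Finite.of_equiv _ e.symm.toEquiv
  exact H740.K4.good5_of_equiv e good5_model

end Cfsg.Agent.H345.K4.Co1
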