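import Cfsg.Agent.H345.K4.PSL34Data
import Cfsg.Agent.H740.K4.Four
import Cfsg.Agent.H740.K4.Equiv
import Cfsg.Agent.S0157

/-!
# Five good characters of `PSL₃(4)` (helper345, for S4947 and S4547)

In `M21` (the pointwise stabiliser of three points in `M24`) the octads through exactly two of the three points are three
orbits of length 56; the difference of the permutation characters on one of them and on the 21 points is an irreducible
character of degree 35 (`56 = 35 + 21`), and these three characters are different. With `1` : four good characters, three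
of them of `7`-defect zero.
-/

set_option autoImplicit false

namespace Cfsg.Agent.H345.K4.PSL34

open Cfsg MulAction Cfsg.Agent.Characters.Core
open Cfsg.Agent.S0157 (isCharacter_fixedBy avg_fixedBy card_fixedBy_prod)
open scoped ComplexConjugate

universe u

section

variable {G : Type*} [Group G]

/-- The permutation character. -/
noncomputable def pc (G : Type*) [Group G] (X : Type*) [MulAction G X] : G → ℂ :=
  fun g => (Nat.card (fixedBy X g) : ℂ)

theorem inner_pc [Fintype G] (A B : Type*) [MulAction G A] [MulAction G B] [Finite A] [Finite B] :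
    classInner (pc G A) (pc G B) = (Nat.card (Quotient (orbitRel G (A × B))) : ℂ) := by
  rw [classInner_def, ← avg_fixedBy (G := G) (A × B)]
  congr 1
  refine Finset.sum_congr rfl fun g _ => ?_
  rw [card_fixedBy_prod, pc, pc, Complex.conj_natCast]
  push_cast
  rfl

theorem pc_one (A : Type*) [MulAction G A] [Finite A] : pc G A 1 = (Nat.card A : ℂ) := by
  rw [pc, fixedBy_one_eq_univ, Nat.card_coe_set_eq, Set.ncard_univ]

theorem nonneg_self [Fintype G] (ψ : G → ℂ) {n : ℤ} (h : classInner ψ ψ = (n : ℂ)) (hψ : ψ ≠ 0) : 0 < n := by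
  have h4 := classInner_self_eq_ofReal ψ
  rw [h] at h4
  have h5 : (n : ℝ) = (Nat.card G : ℝ)⁻¹ * ∑ g : G, Complex.normSq (ψ g) := by exact_mod_cast h4
  have h6 : (0 : ℝ) ≤ (n : ℝ) := by
    rw [h5]
    exact mul_nonneg (by positivity) (Finset.sum_nonneg fun _ _ => Complex.normSq_nonneg _)
  have h7 : (0 : ℤ) ≤ n := by exact_mod_cast h6
  refine lt_of_le_of_ne h7 fun h8 => hψ ?_
  apply classInner_self_eq_zero
  rw [h, ← h8]
  norm_num

/-- The difference of two permutation characters of small ranks. -/
theorem exists_irr [Finite G] (A B : Type*) [MulAction G A] [MulAction G B] [Finite A] [Finite B]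
    (hAA : Nat.card (Quotient (orbitRel G (A × A))) ≤ 3) (hBB : Nat.card (Quotient (orbitRel G (B × B))) ≤ 2)
    (hAB : 2 ≤ Nat.card (Quotient (orbitRel G (A × B)))) {a b d : ℕ} (hA : Nat.card A = a) (hB : Nat.card B = b)
    (hd : a = b + d) (hd0 : 0 < d) :
    IsIrrCharacter G (pc G A - pc G B) ∧ Nat.card (Quotient (orbitRel G (A × B))) = 2 ∧
      Nat.card (Quotient (orbitRel G (B × B))) = 2 := by
  classical
  have := Fintype.ofFinite G
  have hBA : classInner (pc G B) (pc G A) = (Nat.card (Quotient (orbitRel G (A × B))) : ℂ) := by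
    rw [← classInner_conj_symm, inner_pc, Complex.conj_natCast]
  have hnorm : classInner (pc G A - pc G B) (pc G A - pc G B) = (((Nat.card (Quotient (orbitRel G (A × A))) : ℤ) -
      2 * (Nat.card (Quotient (orbitRel G (A × B))) : ℤ) + (Nat.card (Quotient (orbitRel G (B × B))) : ℤ) : ℤ) : ℂ) := by
    simp only [classInner_sub_left, classInner_sub_right]
    rw [hBA, inner_pc, inner_pc, inner_pc]
    push_cast
    ring
  have hval : (pc G A - pc G B) 1 = (d : ℂ) := by
    rw [Pi.sub_apply, pc_one, pc_one, hA, hB, hd]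
    push_cast
    ring
  have h0 := nonneg_self _ hnorm (by
    intro h
    rw [h, Pi.zero_apply] at hval
    have h1 : (0 : ℕ) = d := by exact_mod_cast hval
    omega)
  have h1 : (Nat.card (Quotient (orbitRel G (A × A))) : ℤ) -
      2 * (Nat.card (Quotient (orbitRel G (A × B))) : ℤ) + (Nat.card (Quotient (orbitRel G (B × B))) : ℤ) = 1 := by
    omega
  refine ⟨?_, by omega, by omega⟩
  rw [h1] at hnorm
  have hgen : IsGeneralizedCharacter G (pc G A - pc G B) := by
    rw [isGeneralizedCharacter_def]
    exact ⟨_, _, isCharacter_fixedBy A, isCharacter_fixedBy B, rfl⟩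
  rcases isIrr_of_generalized hgen (by rw [hnorm]; norm_num) with h | h
  · exact h
  · exfalso
    obtain ⟨n, hn, hn'⟩ := isIrr_apply_one h
    rw [Pi.neg_apply, hval] at hn'
    have h4 : ((n + d : ℕ) : ℂ) = ((0 : ℕ) : ℂ) := by
      push_cast
      rw [← hn']
      ring
    have h5 : n + d = 0 := by exact_mod_cast h4
    omega

/-- Two such differences are different. -/
theorem ne_of_rank [Finite G] (A A' B : Type*) [MulAction G A] [MulAction G A'] [MulAction G B] [Finite A] [Finite A']
    [Finite B] (hi : IsIrrCharacter G (pc G A - pc G B)) (h : Nat.card (Quotient (orbitRel G (A × A'))) ≤ 2)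
    (hAB : Nat.card (Quotient (orbitRel G (A × B))) = 2) (hA'B : Nat.card (Quotient (orbitRel G (A' × B))) = 2)
    (hBB : Nat.card (Quotient (orbitRel G (B × B))) = 2) : pc G A - pc G B ≠ pc G A' - pc G B := by
  classical
  have := Fintype.ofFinite G
  intro heq
  have h1 : classInner (pc G A - pc G B) (pc G A' - pc G B) = 1 := by rw [← heq, classInner_irr_self hi]
  have hBA : classInner (pc G B) (pc G A') = (Nat.card (Quotient (orbitRel G (A' × B))) : ℂ) := by
    rw [← classInner_conj_symm, inner_pc, Complex.conj_natCast]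
  simp only [classInner_sub_left, classInner_sub_right] at h1
  rw [hBA, inner_pc, inner_pc, inner_pc, hAB, hA'B, hBB] at h1
  have h2 : ((Nat.card (Quotient (orbitRel G (A × A'))) : ℕ) : ℂ) = ((3 : ℕ) : ℂ) := by
    push_cast at h1 ⊢
    linear_combination h1
  have h3 : Nat.card (Quotient (orbitRel G (A × A'))) = 3 := by exact_mod_cast h2
  omega

theorem pc_rat (A B : Type*) [MulAction G A] [MulAction G B] (g : G) : ∃ q : ℚ, (pc G A - pc G B) g = q :=
  ⟨(Nat.card (fixedBy A g) : ℚ) - (Nat.card (fixedBy B g) : ℚ), by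
    rw [Pi.sub_apply, pc, pc]
    push_cast
    rfl⟩

end

theorem card_GG : Nat.card GG = 20160 := by
  have h := Cfsg.Agent.S0380.card_fixing (s := ({none, some 0, some 1} : Set GolayPt))
    (Cfsg.Agent.S0380.ncard_triple (by decide) (by decide) (by decide))
  rwa [Cfsg.Agent.S0380.fixingSubgroup_triple] at h

theorem good5_model : H601.K4.Good5 GG := by
  classical
  have hc := card_GG
  have hfin : Finite GG := Nat.finite_of_card_ne_zero (by rw [hc]; norm_num)
  have := Fintype.ofFinite GG
  obtain ⟨i0, n0, nP⟩ := exists_irr (X 8388609) P rank00 rank_P inc0 D0.card card_P (d := 35) (by norm_num) (by norm_num)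
  obtain ⟨i1, n1, -⟩ := exists_irr (X 8388610) P rank11 rank_P inc1 D1.card card_P (d := 35) (by norm_num) (by norm_num)
  obtain ⟨i2, n2, -⟩ := exists_irr (X 3) P rank22 rank_P inc2 D2.card card_P (d := 35) (by norm_num) (by norm_num)
  have d0 : (pc GG (X 8388609) - pc GG P) 1 = ((35 : ℕ) : ℂ) := by
    rw [Pi.sub_apply, pc_one, pc_one, D0.card, card_P]
    norm_num
  have d1 : (pc GG (X 8388610) - pc GG P) 1 = ((35 : ℕ) : ℂ) := by
    rw [Pi.sub_apply, pc_one, pc_one, D1.card, card_P]
    norm_num
  have d2 : (pc GG (X 3) - pc GG P) 1 = ((35 : ℕ) : ℂ) := by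
    rw [Pi.sub_apply, pc_one, pc_one, D2.card, card_P]
    norm_num
  have G0 : H601.K4.Good (pc GG (X 8388609) - pc GG P) := H740.K4.good_of_rat i0 (pc_rat _ _)
    (by rw [Cfsg.Agent.Blocks.Basic.charDegree_of_eq d0]; decide)
  have G1 : H601.K4.Good (pc GG (X 8388610) - pc GG P) := H740.K4.good_of_rat i1 (pc_rat _ _)
    (by rw [Cfsg.Agent.Blocks.Basic.charDegree_of_eq d1]; decide)
  have G2 : H601.K4.Good (pc GG (X 3) - pc GG P) := H740.K4.good_of_rat i2 (pc_rat _ _)
    (by rw [Cfsg.Agent.Blocks.Basic.charDegree_of_eq d2]; decide)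
  have f01 := ne_of_rank (X 8388609) (X 8388610) P i0 rank01 n0 n1 nP
  have f02 := ne_of_rank (X 8388609) (X 3) P i0 rank02 n0 n2 nP
  have f12 := ne_of_rank (X 8388610) (X 3) P i1 rank12 n1 n2 nP
  have hne : ∀ {χ : GG → ℂ}, χ 1 = ((35 : ℕ) : ℂ) → (fun _ : GG => (1 : ℂ)) ≠ χ := by
    rintro χ h rfl
    have h1 : ((1 : ℕ) : ℂ) = ((35 : ℕ) : ℂ) := by rw [← h, Nat.cast_one]
    have h2 : (1 : ℕ) = 35 := by exact_mod_cast h1
    omega
  have : Fact (Nat.Prime 7) := ⟨by norm_num⟩
  obtain ⟨t, ht⟩ := exists_prime_orderOf_dvd_card' (G := GG) 7 (by rw [hc]; norm_num)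
  have hzero : ∀ χ : GG → ℂ, IsIrrCharacter GG χ → χ 1 = ((35 : ℕ) : ℂ) → χ t = 0 := by
    intro χ hχ hd
    exact H740.K4.zero_of_dvd (p := 7) (n := 1) (by norm_num) (by rw [hc]; norm_num) (by rw [hc]; norm_num) hχ
      hd (by norm_num) (by rw [ht])
  have g0 := hne d0
  have g1 := hne d1
  have g2 := hne d2
  refine H740.K4.good5_of_four (by rw [hc]; decide)
    (χ := ![fun _ => 1, pc GG (X 8388609) - pc GG P, pc GG (X 8388610) - pc GG P, pc GG (X 3) - pc GG P]) ?_ ?_ (t := t)
    (by rw [ht]; decide) (z := ![1, 0, 0, 0]) ?_ ?_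
  · intro i j hij
    fin_cases i <;> fin_cases j <;> first
      | rfl
      | exact absurd hij g0
      | exact absurd hij g1
      | exact absurd hij g2
      | exact absurd hij f01
      | exact absurd hij f02
      | exact absurd hij f12
      | exact absurd hij g0.symm
      | exact absurd hij g1.symm
      | exact absurd hij g2.symm
      | exact absurd hij f01.symm
      | exact absurd hij f02.symm
      | exact absurd hij f12.symm
  · intro i
    fin_cases i
    · exact H740.K4.good_one'
    · exact G0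
    · exact G1
    · exact G2
  · intro i
    fin_cases i
    · show (1 : ℂ) = ((1 : ℤ) : ℂ)
      norm_num
    · show (pc GG (X 8388609) - pc GG P) t = ((0 : ℤ) : ℂ)
      rw [hzero _ i0 d0]
      norm_num
    · show (pc GG (X 8388610) - pc GG P) t = ((0 : ℤ) : ℂ)
      rw [hzero _ i1 d1]
      norm_num
    · show (pc GG (X 3) - pc GG P) t = ((0 : ℤ) : ℂ)
      rw [hzero _ i2 d2]
      norm_num
  · decide

/-- **Five good characters of `PSL₃(4)`.** -/
theorem good5_psl34 {S : Type u} [Group S] [Finite S] (F : Type) [Field F] [Fintype F] (hF : Fintype.card F = 4)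
    (e : S ≃* Matrix.ProjectiveSpecialLinearGroup (Fin 3) F) : H601.K4.Good5 S := by
  obtain ⟨e'⟩ := Cfsg.Agent.S0380.result none (some 0) (some 1) (by decide) (by decide) (by decide) F hF
  exact H740.K4.good5_of_equiv (e.trans e'.symm) good5_model

end Cfsg.Agent.H345.K4.PSL34
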