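import Cfsg.Agent.H740.K4.Basic
import Cfsg.Agent.Blocks.Central
import Cfsg.Agent.Blocks.OrbitSum

/-!
# Central characters and an element of prime order (helper345, for S4947 and S4547)

`x` an element of prime order `p`, `z₁, z₂, z₃` the conjugates of `z₁` in the centralizer of `x`, a four-group: for an
irreducible `χ` let `s` be the residue of `χ x` and `F` the residue of `χ (z₁ x) + χ (z₂ x) + χ (z₃ x)`. Then
`(F - 3 s) (F + s) = 0`.
-/

set_option autoImplicit false

namespace Cfsg.Agent.H345.K4.CentArg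

open Cfsg Cfsg.Agent.Characters.Core Cfsg.Agent.Blocks.Local

universe u

variable {G : Type u} [Group G]

theorem sum_class [Fintype G] {χ : G → ℂ} (hχ : IsIrrCharacter G χ) (z g : G) :
    ∑ c : G, (open Classical in if IsConj z c then χ (c * g) else 0) = centralChar χ z * χ g := by
  classical
  have h1 := Blocks.Central.chExt_mul hχ (Blocks.Central.classSum_mem_center (k := ℂ) z) (MonoidAlgebra.single g 1)
  rw [Blocks.Central.omegaL_classSum (isIrr_isClassFunction hχ), Blocks.Central.chExt_single, one_mul] at h1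
  rw [← h1, Blocks.Central.chExt_apply]
  have h2 := Equiv.sum_comp (Equiv.mulRight g) (fun c : G =>
    (Blocks.Central.classSum ℂ z * MonoidAlgebra.single g 1).coeff c * χ c)
  rw [← h2]
  refine Finset.sum_congr rfl fun c _ => ?_
  rw [Equiv.coe_mulRight, MonoidAlgebra.coeff_mul_single_apply, mul_inv_cancel_right, mul_one,
    Blocks.Central.coeff_classSum]
  split_ifs <;> simp

variable [Finite G] {p : ℕ} {M : Ideal AlgInt}

theorem mem_irr [M.IsPrime] {χ : G → ℂ} (hχ : IsIrrCharacter G χ) (g : G) : MemLocalRing M (χ g) :=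
  memLocalRing_of_isIntegral (Cfsg.Agent.CharactersDeep.ModCongr.isIntegral_irr hχ g)

theorem cong [Fact p.Prime] [M.IsPrime] (hM : IsPModular p M) {χ : G → ℂ} (hχ : IsIrrCharacter G χ) {z x g : G}
    (hx : orderOf x = p) (hg : x * g = g * x) (T : Finset G) (hT : ∀ c, c ∈ T ↔ IsConj z c ∧ c * x = x * c) :
    redC M (centralChar χ z) * redC M (χ g) = ∑ c ∈ T, redC M (χ (c * g)) := by
  classical

  have := Fintype.ofFinite G
  have hω : MemLocalRing M (centralChar χ z) :=
    memLocalRing_of_isIntegral (Blocks.Central.isIntegral_centralChar hχ z)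
  rw [← redC_mul hω (mem_irr hχ g), ← sum_class hχ, ← redC_sum (fun c _ => mem_irr hχ _)]
  -- the values in the ring of algebraic integers
  let f : G → AlgInt := fun c => if IsConj z c then ⟨χ (c * g), Cfsg.Agent.CharactersDeep.ModCongr.isIntegral_irr hχ _⟩ else 0
  have hf : ∀ c, ((f c : AlgInt) : ℂ) = if IsConj z c then χ (c * g) else 0 := by
    intro c
    show ((if IsConj z c then (⟨χ (c * g), _⟩ : AlgInt) else 0 : AlgInt) : ℂ) = _
    split_ifs <;> rfl
  have hxp : IsPGroup p (Subgroup.zpowers x) := by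
    refine IsPGroup.of_card (n := 1) ?_
    rw [Nat.card_zpowers, hx, pow_one]
  obtain ⟨a, ha⟩ := Blocks.OrbitSum.sum_eq_sum_centralizer_add_smul (Subgroup.zpowers x) hxp f (by
    intro u hu c
    have hug : u * g = g * u := by
      obtain ⟨k, rfl⟩ := Subgroup.mem_zpowers_iff.1 hu
      exact ((show Commute x g from hg).zpow_left k)
    show (if IsConj z (u * c * u⁻¹) then (⟨χ (u * c * u⁻¹ * g), _⟩ : AlgInt) else 0) = _
    have h1 : IsConj z (u * c * u⁻¹) ↔ IsConj z c :=
      ⟨fun H => H.trans (isConj_iff.2 ⟨u, rfl⟩ : IsConj c (u * c * u⁻¹)).symm,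
        fun H => H.trans (isConj_iff.2 ⟨u, rfl⟩)⟩
    have h2 : χ (u * c * u⁻¹ * g) = χ (c * g) := by
      have h3 : u * c * u⁻¹ * g = u * (c * g) * u⁻¹ := by
        have h4 : u⁻¹ * g = g * u⁻¹ := by
          rw [inv_mul_eq_iff_eq_mul, ← mul_assoc, hug, mul_inv_cancel_right]
        rw [mul_assoc (u * c), h4]
        simp only [mul_assoc]
      rw [h3]
      exact isIrr_isClassFunction hχ _ _
    by_cases h : IsConj z c
    · rw [if_pos (h1.2 h)]
      show _ = (if IsConj z c then (⟨χ (c * g), _⟩ : AlgInt) else 0)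
      rw [if_pos h]
      exact Subtype.ext h2
    · rw [if_neg (fun h' => h (h1.1 h'))]
      show _ = (if IsConj z c then (⟨χ (c * g), _⟩ : AlgInt) else 0)
      rw [if_neg h])
  have h3 : ∑ c : G, (if IsConj z c then χ (c * g) else 0) = ∑ c ∈ T, χ (c * g) + (p : ℂ) * (a : ℂ) := by
    have h4 := congrArg (fun y : AlgInt => (y : ℂ)) ha
    simp only [AddMemClass.coe_add, AddSubmonoidClass.coe_finsetSum, nsmul_eq_mul] at h4
    rw [Finset.sum_congr rfl fun c _ => hf c] at h4
    rw [h4]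
    congr 1
    rw [Finset.sum_congr rfl fun c _ => hf c, ← Finset.sum_filter, Finset.filter_filter]
    refine Finset.sum_congr ?_ fun _ _ => rfl
    ext c
    rw [Finset.mem_filter, hT, Subgroup.mem_centralizer_iff]
    refine ⟨fun h => ⟨h.2.2, ?_⟩, fun h => ⟨Finset.mem_univ _, ?_, h.1⟩⟩
    · exact (h.2.1 x (Subgroup.mem_zpowers x)).symm
    · intro u hu
      obtain ⟨k, rfl⟩ := Subgroup.mem_zpowers_iff.1 hu
      exact ((show Commute c x from h.2).zpow_right k).symm
  rw [h3, redC_add (memLocalRing_sum fun c _ => mem_irr hχ _)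
    (memLocalRing_mul (memLocalRing_natCast p) (memLocalRing_algInt a)),
    redC_mul (memLocalRing_natCast p) (memLocalRing_algInt a), redC_natCast]
  have hchar := charP_resField hM
  rw [CharP.cast_eq_zero, zero_mul, add_zero, redC_sum (fun c _ => mem_irr hχ _)]

/-- **The quadratic relation.** -/
theorem quad [Fact p.Prime] [M.IsPrime] (hM : IsPModular p M) {χ : G → ℂ} (hχ : IsIrrCharacter G χ)
    {x z₁ z₂ z₃ : G} (hx : orderOf x = p) (h11 : z₁ * z₁ = 1) (h22 : z₂ * z₂ = 1) (h33 : z₃ * z₃ = 1)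
    (h12 : z₁ * z₂ = z₃) (h21 : z₂ * z₁ = z₃) (hne : z₁ ≠ z₂) (hz1 : z₁ ≠ 1) (hz2 : z₂ ≠ 1)
    (c1 : z₁ * x = x * z₁) (c2 : z₂ * x = x * z₂)
    (k2 : IsConj z₁ z₂) (k3 : IsConj z₁ z₃)
    (hT : ∀ c : G, IsConj z₁ c → c * x = x * c → c = z₁ ∨ c = z₂ ∨ c = z₃) :
    (redC M (χ (z₁ * x)) + redC M (χ (z₂ * x)) + redC M (χ (z₃ * x)) - 3 * redC M (χ x)) *
      (redC M (χ (z₁ * x)) + redC M (χ (z₂ * x)) + redC M (χ (z₃ * x)) + redC M (χ x)) = 0 := by
  classical
  have c3 : z₃ * x = x * z₃ := by rw [← h12, mul_assoc, c2, ← mul_assoc, c1, mul_assoc]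
  have h13 : z₁ * z₃ = z₂ := by rw [← h12, ← mul_assoc, h11, one_mul]
  have h31 : z₃ * z₁ = z₂ := by rw [← h21, mul_assoc, h11, mul_one]
  have h23 : z₂ * z₃ = z₁ := by rw [← h21, ← mul_assoc, h22, one_mul]
  have h32 : z₃ * z₂ = z₁ := by rw [← h12, mul_assoc, h22, mul_one]
  have n13 : z₁ ≠ z₃ := by
    intro h
    apply hz2
    have : z₁ * z₂ = z₁ * 1 := by rw [h12, mul_one, h]
    exact mul_left_cancel this
  have n23 : z₂ ≠ z₃ := by
    intro h
    apply hz1
    have : z₂ * z₁ = z₂ * 1 := by rw [h21, mul_one, h]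
    exact mul_left_cancel this
  have hTs : ∀ c, c ∈ ({z₁, z₂, z₃} : Finset G) ↔ IsConj z₁ c ∧ c * x = x * c := by
    intro c
    simp only [Finset.mem_insert, Finset.mem_singleton]
    constructor
    · rintro (rfl | rfl | rfl)
      · exact ⟨IsConj.refl _, c1⟩
      · exact ⟨k2, c2⟩
      · exact ⟨k3, c3⟩
    · rintro ⟨h1, h2⟩
      exact hT c h1 h2
  have key : ∀ g : G, x * g = g * x → redC M (centralChar χ z₁) * redC M (χ g) =
      redC M (χ (z₁ * g)) + redC M (χ (z₂ * g)) + redC M (χ (z₃ * g)) := by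
    intro g hg
    rw [cong hM hχ hx hg _ hTs, Finset.sum_insert, Finset.sum_insert, Finset.sum_singleton, add_assoc]
    · simp [n23]
    · simp [hne, n13]
  have e0 := key x rfl
  have e1 := key (z₁ * x) (by rw [← mul_assoc, ← c1])
  have e2 := key (z₂ * x) (by rw [← mul_assoc, ← c2])
  have e3 := key (z₃ * x) (by rw [← mul_assoc, ← c3])
  simp only [← mul_assoc, h11, h22, h33, h12, h21, h13, h31, h23, h32, one_mul] at e1 e2 e3
  set ω := redC M (centralChar χ z₁)
  set s := redC M (χ x)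
  set f1 := redC M (χ (z₁ * x))
  set f2 := redC M (χ (z₂ * x))
  set f3 := redC M (χ (z₃ * x))
  linear_combination s * (e1 + e2 + e3) - (f1 + f2 + f3) * e0

end Cfsg.Agent.H345.K4.CentArg
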