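import Cfsg.Agent.H345.K4.CentArg

/-!
# Counting modulo 13 (helper345, for S4947 and S4547)
-/

set_option autoImplicit false

namespace Cfsg.Agent.H345.K4.Count13

open Cfsg Cfsg.Agent.Characters.Core Cfsg.Agent.Blocks.Local Cfsg.Agent.H740.K4 Cfsg.Agent.H618.Sigma
open scoped ComplexConjugate

universe u

variable {G : Type u} [Group G]

/-- An element of order `13` and the conjugates of an involution in its centralizer. -/
structure Data (x z₁ z₂ z₃ : G) : Prop where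
  ox : orderOf x = 13
  h11 : z₁ * z₁ = 1
  h22 : z₂ * z₂ = 1
  h33 : z₃ * z₃ = 1
  h12 : z₁ * z₂ = z₃
  h21 : z₂ * z₁ = z₃
  hne : z₁ ≠ z₂
  hz1 : z₁ ≠ 1
  hz2 : z₂ ≠ 1
  c1 : z₁ * x = x * z₁
  c2 : z₂ * x = x * z₂
  k2 : IsConj z₁ z₂
  k3 : IsConj z₁ z₃
  hT : ∀ c : G, IsConj z₁ c → c * x = x * c → c = z₁ ∨ c = z₂ ∨ c = z₃

variable {M : Ideal AlgInt}

/-- The type of an irreducible character. -/
def Typ (M : Ideal AlgInt) [M.IsPrime] (x z₁ z₂ z₃ : G) (χ : G → ℂ) : Prop :=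
  redC M (χ (z₁ * x)) + redC M (χ (z₂ * x)) + redC M (χ (z₃ * x)) + redC M (χ x) = 0

theorem redC_x [Finite G] [M.IsPrime] (hM : IsPModular 13 M) {x : G} (hx : orderOf x = 13) (χ : IrrCharacter G) :
    redC M ((χ : G → ℂ) x) = (charDegree (χ : G → ℂ) : ResField M) := by
  have : Fact (Nat.Prime 13) := ⟨by norm_num⟩
  have h1 := Cfsg.Agent.CharactersDeep.ModCongr.memLocalIdeal_character_sub hM χ.2 x x
    (Cfsg.Agent.Blocks.PPart.isPPart_of_isPGroup ⟨1, by rw [hx, pow_one]⟩)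
  rw [inv_mul_cancel, ← redC_eq_iff (memLocalRing_irr χ x) (memLocalRing_irr χ 1)] at h1
  rw [h1, Cfsg.Agent.Blocks.Basic.irr_one_eq_charDegree χ.2, redC_natCast]

theorem exists_unique [Fintype G] [M.IsPrime] (hM : IsPModular 13 M) {x z₁ z₂ z₃ : G} (D : Data x z₁ z₂ z₃)
    {W : G → ℂ} (hW : IsCharacter G W) (w0 : W 1 = 10626) (w1 : W (z₁ * x) = 1) (w2 : W (z₂ * x) = 1)
    (w3 : W (z₃ * x) = 1)
    (hdiv : ∀ χ : IrrCharacter G, classInner W (χ : G → ℂ) ≠ 0 → 1771 ∣ charDegree (χ : G → ℂ)) :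
    ∃ χ₀ : IrrCharacter G, mul W χ₀ = 1 ∧ charDegree (χ₀ : G → ℂ) = 1771 ∧ Typ M x z₁ z₂ z₃ (χ₀ : G → ℂ) ∧
      ∀ χ : IrrCharacter G, mul W χ ≠ 0 → Typ M x z₁ z₂ z₃ (χ : G → ℂ) → χ = χ₀ := by
  classical
  have : Finite (IrrCharacter G) := finite_irr
  have := Fintype.ofFinite (IrrCharacter G)
  have : Fact (Nat.Prime 13) := ⟨by norm_num⟩
  have hchar := charP_resField hM
  have h13 : (13 : ResField M) = 0 := by
    have := CharP.cast_eq_zero (ResField M) 13
    exact_mod_cast this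
  -- degrees
  have hm : ∀ χ : IrrCharacter G, mul W χ ≠ 0 →
      charDegree (χ : G → ℂ) = 1771 * (charDegree (χ : G → ℂ) / 1771) := by
    intro χ h
    refine (Nat.mul_div_cancel' (hdiv χ ?_)).symm
    rw [mul_spec hW]
    exact_mod_cast h
  set m : IrrCharacter G → ℕ := fun χ => charDegree (χ : G → ℂ) / 1771 with hmdef
  have hsum : ∑ χ : IrrCharacter G, mul W χ * m χ = 6 := by
    have h2 := congrFun (eq_sum hW) 1
    rw [Finset.sum_apply, w0] at h2
    have h3 : ∀ χ : IrrCharacter G, (mul W χ • (χ : G → ℂ)) 1 = ((mul W χ * (1771 * m χ) : ℕ) : ℂ) := by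
      intro χ
      by_cases h : mul W χ = 0
      · rw [h]; simp
      · rw [Pi.smul_apply, Cfsg.Agent.Blocks.Basic.irr_one_eq_charDegree χ.2, nsmul_eq_mul, hm χ h, ← Nat.cast_mul]
    rw [Finset.sum_congr rfl fun χ _ => h3 χ] at h2
    have h4 : (10626 : ℕ) = ∑ χ : IrrCharacter G, mul W χ * (1771 * m χ) := by exact_mod_cast h2
    have h5 : ∑ χ : IrrCharacter G, mul W χ * (1771 * m χ) = 1771 * ∑ χ : IrrCharacter G, mul W χ * m χ := by
      rw [Finset.mul_sum]
      exact Finset.sum_congr rfl fun χ _ => by ring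
    rw [h5] at h4
    omega
  -- the values
  have hval : ∀ g : G, W g = 1 → ∑ χ : IrrCharacter G, (mul W χ : ResField M) * redC M ((χ : G → ℂ) g) = 1 := by
    intro g hg
    have h2 := congrFun (eq_sum hW) g
    rw [Finset.sum_apply, hg] at h2
    have h3 := congrArg (redC M) h2
    rw [redC_sum (fun χ _ => by
      rw [Pi.smul_apply, nsmul_eq_mul]
      exact memLocalRing_mul (memLocalRing_natCast _) (memLocalRing_irr χ g))] at h3
    have h4 : redC M (1 : ℂ) = 1 := by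
      have := redC_natCast (M := M) 1
      rwa [Nat.cast_one, Nat.cast_one] at this
    rw [h4] at h3
    rw [h3]
    refine Finset.sum_congr rfl fun χ _ => ?_
    rw [Pi.smul_apply, nsmul_eq_mul, redC_mul (memLocalRing_natCast _) (memLocalRing_irr χ g), redC_natCast]
  have hF : ∑ χ : IrrCharacter G, (mul W χ : ResField M) * (redC M ((χ : G → ℂ) (z₁ * x)) +
      redC M ((χ : G → ℂ) (z₂ * x)) + redC M ((χ : G → ℂ) (z₃ * x))) = 3 := by
    simp only [mul_add, Finset.sum_add_distrib]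
    rw [hval _ w1, hval _ w2, hval _ w3]
    norm_num
  -- the two types
  have hcase : ∀ χ : IrrCharacter G, (mul W χ : ResField M) * (redC M ((χ : G → ℂ) (z₁ * x)) +
      redC M ((χ : G → ℂ) (z₂ * x)) + redC M ((χ : G → ℂ) (z₃ * x))) =
      ((9 * (mul W χ * m χ) + (if Typ M x z₁ z₂ z₃ (χ : G → ℂ) then mul W χ * m χ else 0) : ℕ) : ResField M) := by
    intro χ
    by_cases h : mul W χ = 0
    · rw [h]; simp
    have hs : redC M ((χ : G → ℂ) x) = 3 * (m χ : ResField M) := by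
      rw [redC_x hM D.ox, hm χ h, Nat.cast_mul]
      have : ((1771 : ℕ) : ResField M) = 3 := by
        have h5 : ((1771 : ℕ) : ResField M) = 13 * 136 + 3 := by norm_num
        rw [h5, h13]; ring
      rw [this]
    have hq := CentArg.quad hM χ.2 D.ox D.h11 D.h22 D.h33 D.h12 D.h21 D.hne D.hz1 D.hz2 D.c1 D.c2 D.k2 D.k3 D.hT
    push_cast
    split_ifs with ht
    · have ht' : redC M ((χ : G → ℂ) (z₁ * x)) + redC M ((χ : G → ℂ) (z₂ * x)) + redC M ((χ : G → ℂ) (z₃ * x)) +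
          redC M ((χ : G → ℂ) x) = 0 := ht
      have e1 : redC M ((χ : G → ℂ) (z₁ * x)) + redC M ((χ : G → ℂ) (z₂ * x)) + redC M ((χ : G → ℂ) (z₃ * x)) =
          - (3 * (m χ : ResField M)) := by rw [← hs]; linear_combination ht'
      rw [e1]
      linear_combination (-(mul W χ : ResField M) * (m χ : ResField M)) * h13
    · have ht' := (mul_eq_zero.1 hq).resolve_right ht
      have e1 : redC M ((χ : G → ℂ) (z₁ * x)) + redC M ((χ : G → ℂ) (z₂ * x)) + redC M ((χ : G → ℂ) (z₃ * x)) =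
          9 * (m χ : ResField M) := by rw [hs] at ht'; linear_combination ht'
      rw [e1]
      ring
  set T : ℕ := ∑ χ : IrrCharacter G, (if Typ M x z₁ z₂ z₃ (χ : G → ℂ) then mul W χ * m χ else 0) with hT
  have hT1 : T = 1 := by
    have h1 : T ≤ 6 := by
      rw [hT, ← hsum]
      refine Finset.sum_le_sum fun χ _ => ?_
      split_ifs
      · exact le_rfl
      · exact Nat.zero_le _
    have h2 : ((9 * 6 + T : ℕ) : ResField M) = 3 := by
      rw [← hF, Finset.sum_congr rfl fun χ _ => hcase χ, ← Nat.cast_sum, Finset.sum_add_distrib, ← Finset.mul_sum,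
        hsum, ← hT]
    have h3 : ((T + 51 : ℕ) : ResField M) = 0 := by
      push_cast at h2 ⊢
      linear_combination h2
    rw [CharP.cast_eq_zero_iff (ResField M) 13] at h3
    omega
  obtain ⟨χ₀, -, h0⟩ : ∃ χ₀ ∈ (Finset.univ : Finset (IrrCharacter G)),
      (if Typ M x z₁ z₂ z₃ (χ₀ : G → ℂ) then mul W χ₀ * m χ₀ else 0) ≠ 0 := by
    refine Finset.exists_ne_zero_of_sum_ne_zero ?_
    rw [← hT, hT1]
    exact one_ne_zero
  have ht0 : Typ M x z₁ z₂ z₃ (χ₀ : G → ℂ) := by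
    by_contra h
    rw [if_neg h] at h0
    exact h0 rfl
  rw [if_pos ht0] at h0
  have hsplit := Finset.add_sum_erase Finset.univ (fun χ : IrrCharacter G =>
    (if Typ M x z₁ z₂ z₃ (χ : G → ℂ) then mul W χ * m χ else 0)) (Finset.mem_univ χ₀)
  rw [← hT, hT1, if_pos ht0] at hsplit
  have hμ : mul W χ₀ ≠ 0 := fun h => h0 (by rw [h, zero_mul])
  have hone : mul W χ₀ * m χ₀ = 1 := by omega
  have hrest : ∑ χ ∈ Finset.univ.erase χ₀, (if Typ M x z₁ z₂ z₃ (χ : G → ℂ) then mul W χ * m χ else 0) = 0 := by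
    omega
  have hone1 : mul W χ₀ = 1 := Nat.eq_one_of_mul_eq_one_right hone
  have hone2 : m χ₀ = 1 := Nat.eq_one_of_mul_eq_one_left hone
  refine ⟨χ₀, hone1, ?_, ht0, fun χ hχ ht => ?_⟩
  · have := hm χ₀ hμ
    rw [this]
    show 1771 * m χ₀ = 1771
    rw [hone2]
  · by_contra hne
    have h1 := (Finset.sum_eq_zero_iff.1 hrest) χ (Finset.mem_erase.2 ⟨hne, Finset.mem_univ _⟩)
    rw [if_pos ht] at h1
    rcases Nat.mul_eq_zero.1 h1 with h2 | h2
    · exact hχ h2
    · have h3 := hm χ hχ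
      have h4 : charDegree (χ : G → ℂ) = 1771 * m χ := h3
      rw [h2, mul_zero] at h4
      obtain ⟨n, hn, hn'⟩ := isIrr_apply_one χ.2
      have h5 := Cfsg.Agent.Blocks.Basic.irr_one_eq_charDegree χ.2
      rw [h4, hn'] at h5
      have : n = 0 := by exact_mod_cast h5
      omega

end Cfsg.Agent.H345.K4.Count13
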