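import Cfsg.Agent.H345.K4.Count13
import Cfsg.Agent.H740.K4.Bridge
import Cfsg.Agent.Blocks.ExistsModular

/-!
# Two good characters from the counting modulo 13 (helper345, for S4947 and S4547)
-/

set_option autoImplicit false

namespace Cfsg.Agent.H345.K4.Good13

open Cfsg Cfsg.Agent.Characters.Core Cfsg.Agent.Blocks.Local Cfsg.Agent.H740.K4 Cfsg.Agent.H618.Sigma
open Cfsg.Agent.H345.K4.Count13
open scoped ComplexConjugate

universe u

variable {G : Type u} [Group G] {M : Ideal AlgInt} {x z₁ z₂ z₃ : G}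

theorem Data.c3 (D : Data x z₁ z₂ z₃) : z₃ * x = x * z₃ := by
  rw [← D.h12, mul_assoc, D.c2, ← mul_assoc, D.c1, mul_assoc]

theorem Data.n13 (D : Data x z₁ z₂ z₃) : z₁ ≠ z₃ := by
  intro h
  apply D.hz2
  have : z₁ * z₂ = z₁ * 1 := by rw [D.h12, mul_one, h]
  exact mul_left_cancel this

theorem Data.n23 (D : Data x z₁ z₂ z₃) : z₂ ≠ z₃ := by
  intro h
  apply D.hz1
  have : z₂ * z₁ = z₂ * 1 := by rw [D.h21, mul_one, h]
  exact mul_left_cancel this

theorem pow_cube [Finite G] {k : ℕ} (h : Cube G k) (D : Data x z₁ z₂ z₃) {z : G} (hz : z * z = 1)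
    (hc : z * x = x * z) : (z * x) ^ k = z * x := by
  have h1 : z ^ k = z ^ 3 := by
    refine h.two z ?_
    have h2 : orderOf z ∣ 2 := orderOf_dvd_of_pow_eq_one (by rw [pow_two, hz])
    rcases (Nat.dvd_prime Nat.prime_two).1 h2 with h3 | h3
    · exact ⟨0, by rw [h3, pow_zero]⟩
    · exact ⟨1, by rw [h3, pow_one]⟩
  have h4 : x ^ k = x := by
    refine h.odd x ?_
    rw [D.ox]
    decide
  rw [(show Commute z x from hc).mul_pow, h1, h4, pow_succ, pow_two, hz, one_mul]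

theorem typ_sig [Finite G] [M.IsPrime] {k : ℕ} (h : Cube G k) (D : Data x z₁ z₂ z₃) {χ : IrrCharacter G}
    (ht : Typ M x z₁ z₂ z₃ (χ : G → ℂ)) : Typ M x z₁ z₂ z₃ (sig h χ : G → ℂ) := by
  have h4 : x ^ k = x := by
    refine h.odd x ?_
    rw [D.ox]
    decide
  unfold Typ
  rw [sig_apply, sig_apply, sig_apply, sig_apply, pow_cube h D D.h11 D.c1, pow_cube h D D.h22 D.c2,
    pow_cube h D D.h33 (Data.c3 D), h4]
  exact ht

theorem typ_cj [Fintype G] [M.IsPrime] (D : Data x z₁ z₂ z₃) {n : G} (hn : n * x * n⁻¹ = x⁻¹) {χ : IrrCharacter G}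
    (ht : Typ M x z₁ z₂ z₃ (χ : G → ℂ)) : Typ M x z₁ z₂ z₃ (cj χ : G → ℂ) := by
  classical
  have hTs : ∀ c, c ∈ ({z₁, z₂, z₃} : Finset G) ↔ IsConj z₁ c ∧ c * x = x * c := by
    intro c
    simp only [Finset.mem_insert, Finset.mem_singleton]
    constructor
    · rintro (rfl | rfl | rfl)
      · exact ⟨IsConj.refl _, D.c1⟩
      · exact ⟨D.k2, D.c2⟩
      · exact ⟨D.k3, Data.c3 D⟩
    · rintro ⟨h1, h2⟩
      exact D.hT c h1 h2
  have hsum : ∀ f : G → ResField M, ∑ c ∈ ({z₁, z₂, z₃} : Finset G), f c = f z₁ + f z₂ + f z₃ := by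
    intro f
    rw [Finset.sum_insert, Finset.sum_insert, Finset.sum_singleton, add_assoc]
    · simp [Data.n23 D]
    · simp [D.hne, Data.n13 D]
  have hsq : ∀ c ∈ ({z₁, z₂, z₃} : Finset G), c⁻¹ = c := by
    intro c hc
    simp only [Finset.mem_insert, Finset.mem_singleton] at hc
    rcases hc with rfl | rfl | rfl
    · exact inv_eq_of_mul_eq_one_left D.h11
    · exact inv_eq_of_mul_eq_one_left D.h22
    · exact inv_eq_of_mul_eq_one_left D.h33
  have hx : n⁻¹ * x⁻¹ * n = x := by rw [← hn]; group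
  -- the values of the conjugate
  have hcx : (cj χ : G → ℂ) x = (χ : G → ℂ) x := by
    rw [cj_apply, ← isCharacter_apply_inv (isIrr_isCharacter χ.2), ← hn]
    exact isIrr_isClassFunction χ.2 _ _
  have hval : ∀ c ∈ ({z₁, z₂, z₃} : Finset G), (cj χ : G → ℂ) (c * x) = (χ : G → ℂ) (n⁻¹ * c * n * x) := by
    intro c hc
    rw [cj_apply, ← isCharacter_apply_inv (isIrr_isCharacter χ.2), mul_inv_rev, hsq c hc]
    have h1 : n⁻¹ * c * n * x = n⁻¹ * (c * x⁻¹) * (n⁻¹)⁻¹ := by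
      rw [inv_inv]
      have h2 : n * x = x⁻¹ * n := by rw [← hn]; group
      rw [mul_assoc (n⁻¹ * c), h2]
      simp only [mul_assoc]
    have h3 : c * x⁻¹ = x⁻¹ * c := by
      have := ((hTs c).1 hc).2
      rw [eq_inv_mul_iff_mul_eq, ← mul_assoc, ← this, mul_assoc, mul_inv_cancel, mul_one]
    rw [h1, h3]
    exact (isIrr_isClassFunction χ.2 _ _).symm
  have hmem : ∀ c ∈ ({z₁, z₂, z₃} : Finset G), n⁻¹ * c * n ∈ ({z₁, z₂, z₃} : Finset G) := by
    intro c hc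
    obtain ⟨h1, h2⟩ := (hTs c).1 hc
    refine (hTs _).2 ⟨h1.trans (isConj_iff.2 ⟨n⁻¹, by rw [inv_inv]⟩), ?_⟩
    have h3 : c * x⁻¹ = x⁻¹ * c := by
      rw [eq_inv_mul_iff_mul_eq, ← mul_assoc, ← h2, mul_assoc, mul_inv_cancel, mul_one]
    have h4 : n⁻¹ * c * n * (n⁻¹ * x⁻¹ * n) = (n⁻¹ * x⁻¹ * n) * (n⁻¹ * c * n) := by
      have e1 : n⁻¹ * c * n * (n⁻¹ * x⁻¹ * n) = n⁻¹ * (c * x⁻¹) * n := by group
      have e2 : (n⁻¹ * x⁻¹ * n) * (n⁻¹ * c * n) = n⁻¹ * (x⁻¹ * c) * n := by group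
      rw [e1, e2, h3]
    rwa [hx] at h4
  have hperm : ∀ f : G → ResField M, ∑ c ∈ ({z₁, z₂, z₃} : Finset G), f (n⁻¹ * c * n) =
      ∑ c ∈ ({z₁, z₂, z₃} : Finset G), f c := by
    intro f
    have hinj : Set.InjOn (fun c => n⁻¹ * c * n) (({z₁, z₂, z₃} : Finset G) : Set G) := by
      intro a _ b _ hab
      have hab' : n⁻¹ * a * n = n⁻¹ * b * n := hab
      exact mul_left_cancel (mul_right_cancel hab')
    have himg : ({z₁, z₂, z₃} : Finset G).image (fun c => n⁻¹ * c * n) = {z₁, z₂, z₃} := by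
      refine Finset.eq_of_subset_of_card_le ?_ ?_
      · intro c hc
        obtain ⟨d, hd, rfl⟩ := Finset.mem_image.1 hc
        exact hmem d hd
      · rw [Finset.card_image_of_injOn hinj]
    conv_rhs => rw [← himg]
    rw [Finset.sum_image (fun a ha b hb hab => hinj ha hb hab)]
  unfold Typ at ht ⊢
  rw [hcx, ← hsum (fun c => redC M ((cj χ : G → ℂ) (c * x))),
    Finset.sum_congr rfl fun c hc => by rw [hval c hc],
    hperm (fun c => redC M ((χ : G → ℂ) (c * x))), hsum (fun c => redC M ((χ : G → ℂ) (c * x)))]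
  exact ht

/-- **Two good characters.** -/
theorem two_good [Fintype G] {k : ℕ} (h : Cube G k) (D : Data x z₁ z₂ z₃) {n : G} (hn : n * x * n⁻¹ = x⁻¹)
    {W : G → ℂ} (hW : IsCharacter G W) (hq : ∀ g, ∃ q : ℚ, W g = q) (w0 : W 1 = 10626) (w1 : W (z₁ * x) = 1)
    (w2 : W (z₂ * x) = 1) (w3 : W (z₃ * x) = 1)
    (hdiv : ∀ χ : IrrCharacter G, classInner W (χ : G → ℂ) ≠ 0 → 1771 ∣ charDegree (χ : G → ℂ)) :
    ∃ χ₀ χ₁ : IrrCharacter G, Good k (χ₀ : G → ℂ) ∧ Good k (χ₁ : G → ℂ) ∧ χ₀ ≠ χ₁ ∧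
      1771 ∣ charDegree (χ₀ : G → ℂ) ∧ 1771 ∣ charDegree (χ₁ : G → ℂ) := by
  classical
  obtain ⟨M, hM⟩ := Cfsg.Agent.Blocks.ExistsModular.exists_isPModular (p := 13) (by norm_num)
  have : M.IsPrime := hM.2.1.isPrime
  have : Finite (IrrCharacter G) := finite_irr
  have := Fintype.ofFinite (IrrCharacter G)
  obtain ⟨χ₀, hμ, hd, ht, hu⟩ := exists_unique hM D hW w0 w1 w2 w3 hdiv
  have hr : ∀ g, (W g).im = 0 := fun g => by
    obtain ⟨q, hq⟩ := hq g
    rw [hq]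
    exact Complex.ratCast_im q
  have hs := rat_pow h hW hq
  have e1 : sig h χ₀ = χ₀ := by
    refine hu _ ?_ (typ_sig h D ht)
    have h1 := mul_sig h hs χ₀
    rw [mul_spec hW, mul_spec hW, hμ] at h1
    have h2 : mul W (sig h χ₀) = 1 := by exact_mod_cast h1
    rw [h2]
    exact one_ne_zero
  have e2 : cj χ₀ = χ₀ := by
    refine hu _ ?_ (typ_cj D hn ht)
    have h1 := mul_cj hr χ₀
    rw [mul_spec hW, mul_spec hW, hμ, Nat.cast_one, map_one] at h1
    have h2 : mul W (cj χ₀) = 1 := by exact_mod_cast h1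
    rw [h2]
    exact one_ne_zero
  have g0 : Good k (χ₀ : G → ℂ) := by
    refine ⟨(cj_eq_iff χ₀).1 e2, ?_, (sig_eq_iff h χ₀).1 e1⟩
    rw [hd]
    decide
  -- the rest
  let R : G → ℂ := ∑ χ : IrrCharacter G, (if χ = χ₀ then 0 else mul W χ) • (χ : G → ℂ)
  have hR : IsCharacter G R :=
    isCharacter_sum _ fun χ _ => isCharacter_nsmul _ (isIrr_isCharacter χ.2)
  have hRW : ∀ g, R g = W g - (χ₀ : G → ℂ) g := by
    intro g
    have hRg : R g = ∑ χ : IrrCharacter G, ((if χ = χ₀ then 0 else mul W χ) • (χ : G → ℂ)) g :=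
      Finset.sum_apply _ _ _
    have hWg : W g = ∑ χ : IrrCharacter G, (mul W χ • (χ : G → ℂ)) g := by
      conv_lhs => rw [eq_sum hW]
      exact Finset.sum_apply _ _ _
    rw [eq_sub_iff_add_eq, hRg, hWg, ← Finset.add_sum_erase _ (fun χ : IrrCharacter G =>
        ((if χ = χ₀ then 0 else mul W χ) • (χ : G → ℂ)) g) (Finset.mem_univ χ₀), if_pos rfl, zero_smul,
      Pi.zero_apply, zero_add, add_comm, ← Finset.add_sum_erase _ (fun χ : IrrCharacter G =>
        (mul W χ • (χ : G → ℂ)) g) (Finset.mem_univ χ₀), hμ, one_smul]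
    congr 1
    refine Finset.sum_congr rfl fun χ hχ => ?_
    rw [if_neg (Finset.mem_erase.1 hχ).1]
  have hR1 : R 1 = (8855 : ℕ) := by
    rw [hRW, w0, Cfsg.Agent.Blocks.Basic.irr_one_eq_charDegree χ₀.2, hd]
    norm_num
  have hRr : ∀ g, (R g).im = 0 := fun g => by
    rw [hRW, Complex.sub_im, hr, g0.1, sub_zero]
  have hRs : ∀ g, R (g ^ k) = R g := fun g => by
    rw [hRW, hRW, hs, g0.2.2]
  obtain ⟨χ₁, g1, hm1⟩ := exists_good h hR hR1 (by decide) hRr hRs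
  have hm : mul R χ₁ = if χ₁ = χ₀ then 0 else mul W χ₁ := by
    have h1 : classInner R (χ₁ : G → ℂ) = ((if χ₁ = χ₀ then 0 else mul W χ₁ : ℕ) : ℂ) :=
      classInner_sum_nsmul_irr _ _
    rw [mul_spec hR] at h1
    exact_mod_cast h1
  have hne : χ₁ ≠ χ₀ := by
    intro h0
    rw [hm, if_pos h0] at hm1
    exact absurd hm1 (by decide)
  rw [if_neg hne] at hm
  refine ⟨χ₀, χ₁, g0, g1, hne.symm, by rw [hd], hdiv χ₁ ?_⟩
  rw [mul_spec hW, ← hm]
  intro h0
  have h1 : mul R χ₁ = 0 := by exact_mod_cast h0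
  rw [h1] at hm1
  exact absurd hm1 (by decide)

end Cfsg.Agent.H345.K4.Good13
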