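import Cfsg.Agent.S0380
import Cfsg.Agent.SporadicStructure.M24El

/-!
# `PSL₃(4)`: the group `M21` and the three sets of 56 hyperovals (helper345, for S4947 and S4547)

Lists of octads of `M24` through exactly two of the three points `∞, 0, 1`, in the order of an orbit computation of the
pointwise stabiliser of the three points, and the orbits of the stabilisers of one octad.
-/

set_option autoImplicit false

namespace Cfsg.Agent.H345.K4.PSL34

open Cfsg MulAction Cfsg.Agent.SporadicA.GolayBase Cfsg.Agent.SporadicA.GolayPerm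
open Cfsg.Agent.SporadicStructure.M24El
open scoped Pointwise

/-- Generators of the group. -/
def gG : List ℕ := [961388965038600954856745536151734304, 974230813260913038776140531380884512]

/-- Generators of the stabiliser of the base octad. -/
def gA0 : List ℕ := [971589824053803776246295981932090400, 981640161561886897514176059057515552]

/-- Generators of the stabiliser of the base octad. -/
def gA1 : List ℕ := [980720982550022212069549767738670112, 977640835963693729332983283098799136]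

/-- Generators of the stabiliser of the base octad. -/
def gA2 : List ℕ := [975673408333849830588960371677138976, 980509063294387670189564427799474208]

def L0 : List ℕ := [
  8688833, 13121601, 9048457, 9969957, 12641313, 8412681, 12650793, 8471941, 8675909, 10846245, 11575377,
  8946281, 12599513, 8546577, 9240913, 12325377, 12587685, 8619033, 15747077, 10486557, 9519665, 14950785,
  9830549, 10630149, 9607201, 9748745, 8966165, 12880401, 8593633, 11046145, 10110017, 10557585, 13771273,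
  15335473, 8783649, 9776129, 9506893, 13636881, 12747077, 9193633, 8499969, 14254209, 10881097, 9112069,
  11535529, 14747201, 9440193, 13370381, 10506593, 8431757, 11100169, 10666625, 8922769, 8663097, 13062145,
  8391797]

def s0 : List (ℕ × ℕ) := [
  (0, 0), (1, 1), (1, 0), (2, 1), (2, 0), (3, 1), (3, 0), (4, 1), (4, 0), (5, 1), (5, 0), (6, 1), (6, 0), (6,
  0), (7, 1), (7, 1), (7, 0), (8, 1), (7, 0), (8, 1), (8, 0), (9, 1), (9, 0), (10, 1), (10, 1), (10, 0), (10,
  0), (10, 0), (10, 0), (11, 1), (11, 1), (11, 0), (12, 1), (12, 1), (12, 0), (12, 0), (13, 1), (13, 1), (13,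
  0), (14, 1), (14, 1), (13, 0), (14, 1), (14, 1), (13, 1), (13, 1), (13, 0), (13, 1), (12, 1), (11, 0), (11,
  1), (11, 0), (11, 1), (9, 1), (6, 0)]

def L1 : List ℕ := [
  8989058, 15073798, 9503954, 13142054, 11272490, 8704546, 14762146, 10825794, 9578566, 9998658, 12604486,
  8611330, 11831426, 8925710, 9045270, 8937586, 10650722, 8660134, 9543722, 10543366, 10491778, 12624578,
  8849458, 9835530, 13703682, 13631886, 13811730, 13373586, 9708306, 8622214, 10305542, 11538486, 12726562,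
  12944642, 8798658, 10554382, 11551306, 14682450, 9178690, 9456930, 16262146, 8455014, 8407702, 10625178,
  8555274, 8963210, 11108882, 10093218, 12871690, 8474906, 8683614, 11163650, 12584506, 8436754, 13303882,
  8394986]

def s1 : List (ℕ × ℕ) := [
  (0, 0), (1, 1), (1, 0), (2, 1), (2, 1), (2, 0), (3, 1), (3, 0), (4, 1), (3, 0), (4, 1), (4, 0), (5, 1), (5,
  0), (6, 1), (6, 0), (6, 1), (6, 1), (6, 0), (7, 1), (7, 0), (7, 0), (8, 1), (8, 0), (9, 1), (9, 0), (10, 1),
  (10, 1), (10, 0), (10, 0), (11, 1), (11, 0), (12, 1), (12, 0), (13, 1), (12, 1), (12, 1), (12, 0), (12, 1),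
  (11, 0), (9, 0), (9, 0), (10, 1), (10, 0), (10, 1), (10, 0), (9, 1), (9, 0), (8, 0), (8, 0), (9, 1), (9, 1),
  (9, 1), (9, 1), (4, 0)]

def L2 : List ℕ := [
  1212619, 4264387, 4470275, 1413139, 45159, 4505735, 2392899, 3416079, 4196943, 2115979, 18147, 1116327,
  4587803, 185603, 459847, 3152963, 5902343, 6292775, 1836419, 1065303, 140167, 1188915, 5286147, 57883,
  737427, 622863, 3719203, 69395, 352547, 2204803, 1647171, 2183687, 7340691, 1460739, 7145475, 1053483,
  4216883, 2634003, 4424227, 786999, 2494627, 5325835, 6447171, 2263063, 2754059, 4752467, 657763, 551943,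
  2162811, 272595, 210955, 563843, 4726955, 298027, 806987, 5279]

def s2 : List (ℕ × ℕ) := [
  (0, 0), (1, 1), (1, 0), (2, 1), (2, 0), (3, 1), (3, 0), (4, 1), (4, 0), (5, 1), (5, 0), (6, 1), (6, 0), (6,
  0), (6, 0), (7, 1), (7, 0), (8, 1), (8, 0), (8, 0), (9, 1), (9, 0), (9, 0), (10, 1), (9, 0), (10, 1), (10,
  0), (10, 0), (10, 0), (11, 1), (11, 0), (12, 1), (12, 1), (12, 0), (12, 0), (12, 0), (12, 0), (12, 0), (13,
  1), (13, 0), (14, 1), (13, 0), (14, 1), (14, 0), (13, 0), (13, 0), (14, 1), (13, 1), (13, 0), (13, 0), (13,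
  0), (13, 0), (11, 0), (8, 0), (8, 0)]

def L00a : List ℕ := [
  13636881, 10846245, 10630149, 12599513, 8783649, 10557585, 9193633, 9830549, 12587685, 12747077, 8946281,
  8431757, 10110017, 12641313, 10486557, 9506893, 13121601, 9112069, 8593633, 15335473, 8663097, 13370381,
  11535529, 8966165, 9240913, 9776129, 11046145, 9519665, 8688833, 12880401, 12650793, 9969957, 8922769,
  8619033, 14747201, 8546577, 8675909, 10881097, 8471941, 11575377, 9440193, 9607201, 10506593, 15747077,
  8412681]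

def s00a : List (ℕ × ℕ) := [
  (0, 0), (1, 1), (1, 0), (2, 1), (2, 0), (3, 1), (3, 0), (4, 1), (4, 0), (5, 1), (5, 0), (6, 1), (6, 0), (7,
  1), (7, 0), (8, 1), (8, 0), (9, 1), (9, 0), (10, 1), (10, 0), (11, 1), (11, 0), (12, 1), (12, 1), (12, 0),
  (13, 1), (13, 0), (14, 1), (13, 0), (14, 1), (14, 0), (14, 0), (14, 1), (12, 0), (13, 1), (11, 1), (10, 0),
  (10, 0), (7, 1), (6, 0), (7, 1), (2, 1), (2, 0)]

def L00b : List ℕ := [
  10666625, 9748745, 12325377, 13062145, 14950785, 13771273, 9048457, 14254209, 11100169, 8499969]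

def s00b : List (ℕ × ℕ) := [
  (0, 0), (0, 0), (1, 1), (1, 1), (1, 0), (2, 1), (2, 1), (1, 1), (1, 0)]

def L01a : List ℕ := [
  9178690, 8683614, 8849458, 8660134, 13142054, 8455014, 9578566, 8407702, 10650722, 12584506, 9045270,
  8937586, 10554382, 9456930, 11538486, 9503954, 8436754, 12604486, 14682450, 8394986]

def s01a : List (ℕ × ℕ) := [
  (0, 0), (1, 1), (1, 0), (2, 1), (2, 0), (3, 1), (3, 0), (4, 1), (4, 0), (5, 1), (5, 0), (6, 1), (6, 0), (7,
  1), (7, 0), (6, 0), (7, 1), (6, 0), (5, 1)]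

def L01b : List ℕ := [
  12726562, 13631886, 9835530, 10825794, 8989058, 13303882, 14762146, 8963210, 10305542, 13373586, 10491778,
  13811730, 8555274, 10543366, 9543722, 8925710, 11108882, 8611330, 10625178, 11551306, 11163650, 11831426,
  8704546, 12944642, 9708306, 9998658, 13703682, 12624578, 15073798, 8798658, 12871690, 11272490, 10093218,
  8622214, 16262146, 8474906]

def s01b : List (ℕ × ℕ) := [
  (0, 0), (0, 0), (1, 1), (1, 0), (2, 1), (2, 0), (3, 1), (3, 0), (3, 0), (4, 1), (4, 0), (5, 1), (5, 0), (6,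
  1), (5, 0), (6, 1), (6, 0), (7, 1), (7, 1), (7, 0), (8, 1), (8, 1), (8, 0), (7, 0), (8, 1), (8, 1), (8, 0),
  (8, 0), (8, 0), (8, 0), (8, 1), (8, 1), (8, 0), (5, 0), (6, 1)]

def L02a : List ℕ := [
  786999, 298027, 459847, 272595, 4752467, 69395, 1188915, 18147, 2263063, 4196943, 657763, 551943, 2162811,
  1065303, 3152963, 1116327, 45159, 4216883, 6292775, 5279]

def s02a : List (ℕ × ℕ) := [
  (0, 0), (1, 1), (1, 0), (2, 1), (2, 0), (3, 1), (3, 0), (4, 1), (4, 0), (5, 1), (5, 0), (6, 1), (6, 0), (7,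
  1), (7, 0), (6, 0), (7, 1), (6, 0), (5, 1)]

def L02b : List ℕ := [
  185603, 7340691, 563843, 1647171, 3416079, 352547, 806987, 7145475, 1212619, 2754059, 5286147, 4470275,
  4424227, 140167, 4264387, 210955, 2115979, 3719203, 1413139, 4505735, 2392899, 4587803, 1836419, 4726955,
  622863, 2183687, 6447171, 1460739, 2494627, 737427, 2204803, 1053483, 5902343, 2634003, 5325835, 57883]

def s02b : List (ℕ × ℕ) := [
  (0, 0), (1, 1), (1, 0), (2, 1), (2, 0), (3, 1), (3, 0), (4, 1), (4, 0), (5, 1), (5, 0), (6, 1), (6, 0), (7,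
  1), (7, 0), (8, 1), (7, 0), (7, 0), (8, 1), (8, 1), (8, 0), (8, 0), (9, 1), (9, 0), (8, 1), (8, 0), (8, 0),
  (7, 0), (8, 1), (7, 0), (7, 1), (6, 1), (4, 0), (4, 0), (5, 1)]

def L11a : List ℕ := [
  11538486, 11551306, 12604486, 14682450, 8683614, 11163650, 13703682, 10554382, 9835530, 8937586, 10093218,
  8963210, 12584506, 8704546, 8660134, 8925710, 9543722, 8798658, 10625178, 13303882, 9998658, 10650722,
  13373586, 13142054, 11831426, 8436754, 8849458, 8622214, 8989058, 14762146, 13631886, 12871690, 9578566,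
  10825794, 12726562, 8455014, 10491778, 9456930, 9503954, 8474906, 8555274, 9178690, 11272490, 12624578,
  8407702]

def s11a : List (ℕ × ℕ) := [
  (0, 0), (1, 1), (1, 0), (2, 1), (2, 0), (3, 1), (3, 1), (3, 0), (4, 1), (4, 0), (5, 1), (5, 0), (6, 1), (6,
  0), (7, 1), (6, 1), (6, 1), (6, 0), (7, 1), (7, 0), (8, 1), (8, 0), (9, 1), (9, 0), (10, 1), (10, 1), (10,
  0), (11, 1), (11, 1), (11, 1), (11, 1), (11, 1), (11, 0), (12, 1), (12, 0), (13, 1), (13, 0), (13, 1), (13,
  0), (13, 1), (13, 0), (8, 0), (9, 1), (7, 0)]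

def L11b : List ℕ := [
  16262146, 13811730, 10305542, 9708306, 12944642, 9045270, 11108882, 10543366, 15073798, 8611330]

def s11b : List (ℕ × ℕ) := [
  (0, 0), (1, 1), (1, 0), (2, 1), (2, 0), (2, 1), (2, 1), (0, 0), (1, 1)]

def L12a : List ℕ := [
  272595, 210955, 657763, 2162811, 1212619, 4264387, 2115979, 4196943, 1116327, 2494627, 4726955, 1053483,
  18147, 3152963, 4216883, 563843, 298027, 806987, 45159, 5279]

def s12a : List (ℕ × ℕ) := [
  (0, 0), (1, 1), (1, 0), (2, 1), (2, 0), (3, 1), (3, 1), (3, 1), (3, 0), (4, 1), (4, 0), (4, 0), (5, 1), (5,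
  1), (5, 1), (5, 0), (4, 1), (3, 1), (2, 1)]

def L12b : List ℕ := [
  7340691, 4505735, 551943, 4752467, 1460739, 2263063, 3719203, 1188915, 459847, 1413139, 2754059, 3416079,
  1647171, 6447171, 5902343, 7145475, 5286147, 2204803, 4587803, 2634003, 4424227, 737427, 622863, 5325835,
  1065303, 352547, 140167, 2183687, 6292775, 1836419, 69395, 185603, 786999, 2392899, 4470275, 57883]

def s12b : List (ℕ × ℕ) := [
  (0, 0), (1, 1), (1, 0), (2, 1), (2, 0), (2, 1), (2, 0), (3, 1), (3, 0), (4, 1), (4, 0), (5, 1), (5, 0), (6,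
  1), (6, 0), (7, 1), (6, 0), (7, 1), (7, 0), (8, 1), (8, 0), (9, 1), (9, 1), (9, 1), (9, 0), (9, 1), (9, 1),
  (7, 1), (7, 0), (7, 1), (7, 0), (7, 1), (5, 1), (5, 1), (5, 1)]

def L22a : List ℕ := [
  3152963, 7340691, 551943, 2263063, 737427, 185603, 459847, 1053483, 786999, 2494627, 806987, 622863, 3416079,
  4196943, 4216883, 4470275, 272595, 2115979, 2204803, 4264387, 69395, 1836419, 4726955, 4587803, 1212619,
  2183687, 45159, 1065303, 2754059, 1188915, 2634003, 4752467, 5325835, 140167, 298027, 1116327, 563843,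
  1413139, 5902343, 57883, 2162811, 6292775, 4505735, 210955, 18147]

def s22a : List (ℕ × ℕ) := [
  (0, 0), (1, 1), (1, 0), (2, 1), (2, 0), (3, 1), (3, 0), (4, 1), (4, 0), (5, 1), (5, 0), (6, 1), (6, 0), (7,
  1), (7, 1), (7, 0), (8, 1), (8, 1), (8, 0), (9, 1), (9, 0), (9, 1), (9, 1), (9, 1), (9, 0), (10, 1), (10, 1),
  (10, 0), (11, 1), (10, 1), (10, 0), (11, 1), (10, 0), (10, 0), (10, 0), (10, 1), (10, 0), (9, 1), (9, 0),
  (10, 1), (9, 0), (7, 0), (3, 1), (2, 1)]

def L22b : List ℕ := [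
  6447171, 1460739, 7145475, 2392899, 657763, 5286147, 1647171, 3719203, 4424227, 352547]

def s22b : List (ℕ × ℕ) := [
  (0, 1), (0, 1), (0, 0), (1, 1), (1, 0), (1, 0), (1, 0), (1, 0), (0, 0)]

/-! ### the group and the sets -/

/-- The pointwise stabiliser of the three points. -/
abbrev GG : Subgroup M24 :=
  stabilizer M24 (none : GolayPt) ⊓ stabilizer M24 (some 0 : GolayPt) ⊓ stabilizer M24 (some 1 : GolayPt)

theorem mem_GG {g : M24} : g ∈ GG ↔ (g • (none : GolayPt) = none ∧ g • (some 0 : GolayPt) = some 0) ∧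
    g • (some 1 : GolayPt) = some 1 := Iff.rfl

/-- The three points. -/
def T : Finset GolayPt := {none, some 0, some 1}

theorem mem_T {p : GolayPt} : p ∈ T ↔ p = none ∨ p = some 0 ∨ p = some 1 := by
  unfold T
  simp only [Finset.mem_insert, Finset.mem_singleton]

theorem smul_of_mem_T (g : GG) {p : GolayPt} (hp : p ∈ T) : (g : M24) • p = p := by
  obtain ⟨⟨h1, h2⟩, h3⟩ := mem_GG.1 g.2
  rcases mem_T.1 hp with rfl | rfl | rfl
  · exact h1
  · exact h2
  · exact h3

theorem smul_sub_T (g : GG) {U : Finset GolayPt} (hU : U ⊆ T) : (g : M24) • U = U := by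
  have h : (g : M24) • U = U.image fun p => (g : M24) • p := rfl
  rw [h]
  conv_rhs => rw [← Finset.image_id (s := U)]
  exact Finset.image_congr fun p hp => smul_of_mem_T g (hU hp)

/-- The octads with a given intersection with the three points. -/
def X (v : ℕ) : Type := {s : Finset GolayPt // s ∈ octads ∧ s ∩ T = fin v}

instance (v : ℕ) : Finite (X v) := by
  unfold X
  infer_instance

theorem smul_mem (g : GG) {v : ℕ} {s : Finset GolayPt} (h : s ∈ octads ∧ s ∩ T = fin v) :
    (g : M24) • s ∈ octads ∧ ((g : M24) • s) ∩ T = fin v := by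
  refine ⟨(smul_mem_octads (g : M24).2).2 h.1, ?_⟩
  have h1 : (g : M24) • (s ∩ T) = ((g : M24) • s) ∩ ((g : M24) • T) := Finset.smul_finset_inter
  have h2 : (g : M24) • T = T := smul_sub_T g (Finset.Subset.refl T)
  have h3 : (g : M24) • (s ∩ T) = s ∩ T := smul_sub_T g Finset.inter_subset_right
  rw [← h.2, ← h3, h1, h2]

instance (v : ℕ) : MulAction GG (X v) where
  smul g s := ⟨(g : M24) • s.1, smul_mem g s.2⟩
  one_smul s := Subtype.ext (one_smul M24 s.1)
  mul_smul g h s := Subtype.ext (mul_smul (g : M24) (h : M24) s.1)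

theorem coe_smul {v : ℕ} (g : GG) (s : X v) : (g • s).1 = (g : M24) • s.1 := rfl

/-- The other 21 points. -/
def P : Type := {p : GolayPt // p ∉ T}

instance : Finite P := by
  unfold P
  infer_instance

theorem smul_notMem (g : GG) {p : GolayPt} (hp : p ∉ T) : (g : M24) • p ∉ T := by
  intro h
  apply hp
  have h1 : (g : M24)⁻¹ • ((g : M24) • p) = (g : M24) • p := smul_of_mem_T g⁻¹ h
  rw [inv_smul_smul] at h1
  rwa [h1]

instance : MulAction GG P where
  smul g p := ⟨(g : M24) • p.1, smul_notMem g p.2⟩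
  one_smul p := Subtype.ext (one_smul M24 p.1)
  mul_smul g h p := Subtype.ext (mul_smul (g : M24) (h : M24) p.1)

theorem coe_smul_P (g : GG) (p : P) : (g • p).1 = (g : M24) • p.1 := rfl

/-! ### packed permutations -/

/-- A packed permutation in the group. -/
def inG (Q : ℕ) : Bool := ok Q && (Nat.beq (papp Q 23) 23 && (Nat.beq (papp Q 0) 0 && Nat.beq (papp Q 1) 1))

theorem el_mem_GG {Q : ℕ} (h : inG Q = true) : el Q ∈ GG := by
  unfold inG at h
  rw [Bool.and_eq_true, Bool.and_eq_true, Bool.and_eq_true] at h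
  obtain ⟨h1, h2, h3, h4⟩ := h
  refine mem_GG.2 ⟨⟨?_, ?_⟩, ?_⟩
  · rw [el_smul_pt h1]
    show pt (papp Q 23) = none
    rw [Nat.eq_of_beq_eq_true h2]
    rfl
  · rw [el_smul_pt h1]
    show pt (papp Q 0) = some 0
    rw [Nat.eq_of_beq_eq_true h3]
    rfl
  · rw [el_smul_pt h1]
    show pt (papp Q 1) = some 1
    rw [Nat.eq_of_beq_eq_true h4]
    rfl

/-- `m` is in the orbit of `b`. -/
def Reach (K : Subgroup M24) (b m : ℕ) : Prop := ∃ g ∈ K, g • fin b = fin m

/-- Orbit computation. -/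
def build (gl : List ℕ) (b : ℕ) : List (ℕ × ℕ) → List ℕ → List ℕ
  | [], acc => acc
  | (j, k) :: st, acc => build gl b st (pimg (gl.getD k idP) (acc.getD j b) :: acc)

theorem getD_prop {α : Type*} {p : α → Prop} {l : List α} {d : α} (hl : ∀ a ∈ l, p a) (hd : p d) (i : ℕ) :
    p (l.getD i d) := by
  by_cases hi : i < l.length
  · rw [List.getD_eq_getElem _ _ hi]
    exact hl _ (List.getElem_mem hi)
  · rw [List.getD_eq_default _ _ (by omega)]
    exact hd

theorem build_spec {K : Subgroup M24} {gl : List ℕ} (hK : ∀ Q ∈ gl, ok Q = true ∧ el Q ∈ K) {b : ℕ}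
    (st : List (ℕ × ℕ)) : ∀ acc : List ℕ, (∀ m ∈ acc, Reach K b m) → ∀ m ∈ build gl b st acc, Reach K b m := by
  induction st with
  | nil => exact fun acc h => h
  | cons a st ih =>
    intro acc h
    obtain ⟨j, k⟩ := a
    refine ih _ ?_
    intro m hm
    rcases List.mem_cons.1 hm with rfl | hm
    · obtain ⟨g, hg, hg'⟩ := getD_prop (p := Reach K b) h ⟨1, K.one_mem, one_smul M24 _⟩ j
      obtain ⟨h1, h2⟩ := getD_prop (p := fun Q => ok Q = true ∧ el Q ∈ K) hK
        ⟨ok_idP, by rw [el_idP]; exact K.one_mem⟩ k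
      refine ⟨el (gl.getD k idP) * g, K.mul_mem h2 hg, ?_⟩
      rw [mul_smul, hg', el_smul_fin h1]
    · exact h m hm

theorem reach_of_build {K : Subgroup M24} {gl : List ℕ} (hK : ∀ Q ∈ gl, ok Q = true ∧ el Q ∈ K) {b : ℕ}
    {st : List (ℕ × ℕ)} {l : List ℕ} (h : build gl b st [b] = l) : ∀ m ∈ l, Reach K b m := by
  rw [← h]
  refine build_spec hK st [b] ?_
  intro m hm
  rw [List.mem_singleton.1 hm]
  exact ⟨1, K.one_mem, one_smul M24 _⟩

/-! ### the 56 octads -/

/-- The test for all octads. -/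
def allOct (v : ℕ) (l : List ℕ) : Bool :=
  allR 12 0 fun i => !(Nat.beq (popcount (enc i)) 8 && Nat.beq (enc i &&& 8388611) v) || l.any fun x => Nat.beq x (enc i)

/-- The test of an octad. -/
def okO (v m : ℕ) : Bool := isCode m && (Nat.beq (popcount m) 8 && Nat.beq (m &&& 8388611) v)

theorem fin_T : fin 8388611 = T := by decide +kernel

structure Dat (v : ℕ) (l : List ℕ) (b : ℕ) : Prop where
  all : allOct v l = true
  okl : (l.all fun m => okO v m) = true
  reach : ∀ m ∈ l, Reach GG b m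
  hv : v < 2 ^ 24
  nodup : l.Nodup
  len : l.length = 56
  hb : b ∈ l

section Dat

variable {v : ℕ} {l : List ℕ} {b : ℕ}

theorem Dat.ok (D : Dat v l b) {m : ℕ} (hm : m ∈ l) : m < 2 ^ 24 ∧ (fin m ∈ octads ∧ fin m ∩ T = fin v) := by
  have h := List.all_eq_true.1 D.okl m hm
  unfold okO at h
  rw [Bool.and_eq_true, Bool.and_eq_true] at h
  obtain ⟨h1, h2, h3⟩ := h
  have hlt := isCode_lt h1
  refine ⟨hlt, (fin_mem_octads_iff hlt).2 ⟨h1, Nat.eq_of_beq_eq_true h2⟩, ?_⟩
  rw [← fin_T, ← fin_and, Nat.eq_of_beq_eq_true h3]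

theorem Dat.mem (D : Dat v l b) (s : X v) : maskOf s.1 ∈ l := by
  obtain ⟨h1, h2⟩ := (mem_octads_iff s.1).1 s.2.1
  obtain ⟨i, hi, hi'⟩ := isCode_iff_exists.1 h1
  have h3 := allR_zero_spec D.all i hi
  have h4 : maskOf s.1 &&& 8388611 = v := by
    apply fin_injective (lt_of_le_of_lt Nat.and_le_left (maskOf_lt _)) D.hv
    rw [fin_and, fin_maskOf, fin_T]
    exact s.2.2
  have h5 : (Nat.beq (popcount (enc i)) 8 && Nat.beq (enc i &&& 8388611) v) = true := by
    rw [← hi', Bool.and_eq_true]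
    exact ⟨by rw [h2]; rfl, by rw [h4]; exact Nat.beq_refl v⟩
  rw [h5, Bool.not_true, Bool.false_or] at h3
  obtain ⟨x, hx, hx'⟩ := List.any_eq_true.1 h3
  rw [hi', ← Nat.eq_of_beq_eq_true hx']
  exact hx

/-- The octad of a member of the list. -/
def Dat.o (D : Dat v l b) {m : ℕ} (hm : m ∈ l) : X v := ⟨fin m, (D.ok hm).2⟩

theorem Dat.card (D : Dat v l b) : Nat.card (X v) = 56 := by
  have h : Nat.card (X v) = Nat.card {m : ℕ // m ∈ l.toFinset} := by
    refine Nat.card_congr
      { toFun := fun s => ⟨maskOf s.1, List.mem_toFinset.2 (D.mem s)⟩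
        invFun := fun m => D.o (List.mem_toFinset.1 m.2)
        left_inv := fun s => Subtype.ext (fin_maskOf s.1)
        right_inv := fun m => Subtype.ext (maskOf_fin (D.ok (List.mem_toFinset.1 m.2)).1) }
  rw [h, Nat.card_eq_fintype_card, Fintype.card_coe, List.toFinset_card_of_nodup D.nodup, D.len]

theorem Dat.exists_smul (D : Dat v l b) (s : X v) : ∃ g : GG, g • D.o D.hb = s := by
  obtain ⟨g, hg, h⟩ := D.reach _ (D.mem s)
  refine ⟨⟨g, hg⟩, Subtype.ext ?_⟩
  rw [fin_maskOf] at h
  exact h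

end Dat

/-! ### orbits on pairs -/

theorem rank_le {G A B : Type*} [Group G] [MulAction G A] [MulAction G B] (a : A) (ha : ∀ x, ∃ g : G, g • a = x) {n : ℕ}
    (r : Fin n → B) (hr : ∀ y, ∃ g : G, g • a = a ∧ ∃ i, g • r i = y) :
    Nat.card (Quotient (orbitRel G (A × B))) ≤ n := by
  have h : Function.Surjective (fun i : Fin n => (Quotient.mk _ (a, r i) : Quotient (orbitRel G (A × B)))) := by
    intro q
    induction q using Quotient.inductionOn with | _ p =>
    obtain ⟨x, y⟩ := p
    obtain ⟨g, rfl⟩ := ha x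
    obtain ⟨k, hk, i, hi⟩ := hr (g⁻¹ • y)
    refine ⟨i, Quotient.sound ?_⟩
    refine ⟨(g * k)⁻¹, ?_⟩
    show (g * k)⁻¹ • (g • a, y) = (a, r i)
    rw [inv_smul_eq_iff, Prod.smul_mk, mul_smul, mul_smul, hk, hi, smul_inv_smul]
  have h2 := Nat.card_le_card_of_surjective _ h
  rwa [Nat.card_fin] at h2

theorem Dat.rank_le {v v' : ℕ} {l l' : List ℕ} {b b' : ℕ} (D : Dat v l b) (D' : Dat v' l' b') {n : ℕ} (r : Fin n → ℕ)
    (hr : ∀ i, r i ∈ l') (hc : ∀ m ∈ l', ∃ i, Reach (GG ⊓ stabilizer M24 (fin b)) (r i) m) :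
    Nat.card (Quotient (orbitRel GG (X v × X v'))) ≤ n := by
  refine PSL34.rank_le (D.o D.hb) D.exists_smul (fun i => D'.o (hr i)) fun y => ?_
  obtain ⟨i, g, ⟨hg, hg'⟩, h⟩ := hc _ (D'.mem y)
  refine ⟨⟨g, hg⟩, Subtype.ext hg', i, Subtype.ext ?_⟩
  rw [fin_maskOf] at h
  exact h

/-- The incidence between points and octads. -/
theorem Dat.two_le {v : ℕ} {l : List ℕ} {b : ℕ} (D : Dat v l b) {p q : GolayPt} (hp : p ∉ T) (hq : q ∉ T)
    (h1 : p ∈ fin b) (h2 : q ∉ fin b) : 2 ≤ Nat.card (Quotient (orbitRel GG (X v × P))) := by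
  classical
  let f : Quotient (orbitRel GG (X v × P)) → Bool := Quotient.lift (fun z : X v × P => decide (z.2.1 ∈ z.1.1)) (by
    rintro ⟨a, c⟩ ⟨a', c'⟩ ⟨g, hg⟩
    have e1 : g • a' = a := congrArg Prod.fst hg
    have e2 : g • c' = c := congrArg Prod.snd hg
    rw [decide_eq_decide, ← e1, ← e2, coe_smul, coe_smul_P]
    exact Finset.smul_mem_smul_finset_iff _)
  have hf : Function.Surjective f := by
    intro t
    cases t
    · exact ⟨Quotient.mk _ (D.o D.hb, ⟨q, hq⟩), decide_eq_false h2⟩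
    · exact ⟨Quotient.mk _ (D.o D.hb, ⟨p, hp⟩), decide_eq_true h1⟩
  have : Finite (Quotient (orbitRel GG (X v × P))) := Quotient.finite _
  have h3 := Nat.card_le_card_of_surjective f hf
  rwa [Nat.card_eq_fintype_card (α := Bool), Fintype.card_bool] at h3

theorem exists_PP {p q : GolayPt} (hp : p ∉ T) (hq : q ∉ T) (hpq : p ≠ q) :
    ∃ g : GG, (g : M24) • (some 2 : GolayPt) = p ∧ (g : M24) • (some 3 : GolayPt) = q := by
  have h5 : IsMultiplyPretransitive M24 GolayPt 5 := Cfsg.Agent.S0366.result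
  rw [isMultiplyPretransitive_iff] at h5
  have hx : Function.Injective ![(none : GolayPt), some 0, some 1, some 2, some 3] := by decide
  rw [mem_T, not_or, not_or] at hp hq
  obtain ⟨hp1, hp2, hp3⟩ := hp
  obtain ⟨hq1, hq2, hq3⟩ := hq
  have hy : Function.Injective ![(none : GolayPt), some 0, some 1, p, q] := by
    intro i j hij
    have hp1' := Ne.symm hp1
    have hp2' := Ne.symm hp2
    have hp3' := Ne.symm hp3
    have hq1' := Ne.symm hq1
    have hq2' := Ne.symm hq2
    have hq3' := Ne.symm hq3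
    have hpq' := Ne.symm hpq
    have h01 : (some 0 : GolayPt) ≠ some 1 := by decide
    have h10 := Ne.symm h01
    have hn0 : (none : GolayPt) ≠ some 0 := by decide
    have h0n := Ne.symm hn0
    have hn1 : (none : GolayPt) ≠ some 1 := by decide
    have h1n := Ne.symm hn1
    fin_cases i <;> fin_cases j <;> first | rfl | exact absurd hij (by assumption)
  obtain ⟨g, hg⟩ := h5 (x := ⟨_, hx⟩) (y := ⟨_, hy⟩)
  have hg0 : g • (none : GolayPt) = none := DFunLike.congr_fun hg 0
  have hg1 : g • (some 0 : GolayPt) = some 0 := DFunLike.congr_fun hg 1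
  have hg2 : g • (some 1 : GolayPt) = some 1 := DFunLike.congr_fun hg 2
  have hg3 : g • (some 2 : GolayPt) = p := DFunLike.congr_fun hg 3
  have hg4 : g • (some 3 : GolayPt) = q := DFunLike.congr_fun hg 4
  exact ⟨⟨g, mem_GG.2 ⟨⟨hg0, hg1⟩, hg2⟩⟩, hg3, hg4⟩

theorem two_notMem : (some 2 : GolayPt) ∉ T := by decide

theorem three_notMem : (some 3 : GolayPt) ∉ T := by decide

/-- The point `2`. -/
def p2 : P := ⟨some 2, two_notMem⟩

/-- The point `3`. -/
def p3 : P := ⟨some 3, three_notMem⟩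

theorem exists_other (p : P) : ∃ q : P, p ≠ q := by
  by_cases h : p.1 = some 2
  · refine ⟨p3, fun h' => ?_⟩
    rw [h'] at h
    exact absurd h (by decide)
  · exact ⟨p2, fun h' => h (by rw [h']; rfl)⟩

theorem exists_smul_P (p : P) : ∃ g : GG, g • p2 = p := by
  obtain ⟨q, hq⟩ := exists_other p
  obtain ⟨g, h1, -⟩ := exists_PP p.2 q.2 (fun h => hq (Subtype.ext h))
  exact ⟨g, Subtype.ext h1⟩

theorem rank_P : Nat.card (Quotient (orbitRel GG (P × P))) ≤ 2 := by
  refine rank_le p2 exists_smul_P ![p2, p3] fun y => ?_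
  by_cases h : y = p2
  · exact ⟨1, one_smul _ _, 0, by rw [one_smul]; exact h.symm⟩
  · obtain ⟨g, h1, h2⟩ := exists_PP two_notMem y.2 (fun h' => h (Subtype.ext h'.symm))
    exact ⟨g, Subtype.ext h1, 1, Subtype.ext h2⟩

theorem card_P : Nat.card P = 21 := by
  unfold P
  rw [Nat.card_eq_fintype_card]
  decide +kernel

/-! ### the checks -/

theorem gG_ok : (gG.all fun Q => inG Q) = true := by decide +kernel

theorem gG_spec : ∀ Q ∈ gG, ok Q = true ∧ el Q ∈ GG := by
  intro Q hQ
  have h := List.all_eq_true.1 gG_ok Q hQ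
  refine ⟨?_, el_mem_GG h⟩
  unfold inG at h
  rw [Bool.and_eq_true] at h
  exact h.1

theorem gA_spec {l : List ℕ} {b : ℕ} (h : (l.all fun Q => inG Q && Nat.beq (pimg Q b) b) = true) :
    ∀ Q ∈ l, ok Q = true ∧ el Q ∈ GG ⊓ stabilizer M24 (fin b) := by
  intro Q hQ
  have h := List.all_eq_true.1 h Q hQ
  rw [Bool.and_eq_true] at h
  have h1 : ok Q = true := by
    have h2 := h.1
    unfold inG at h2
    rw [Bool.and_eq_true] at h2
    exact h2.1
  refine ⟨h1, Subgroup.mem_inf.2 ⟨el_mem_GG h.1, mem_stabilizer_iff.2 ?_⟩⟩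
  rw [el_smul_fin h1, Nat.eq_of_beq_eq_true h.2]

theorem gA0_spec : ∀ Q ∈ gA0, ok Q = true ∧ el Q ∈ GG ⊓ stabilizer M24 (fin 8391797) := gA_spec (by decide +kernel)

theorem gA1_spec : ∀ Q ∈ gA1, ok Q = true ∧ el Q ∈ GG ⊓ stabilizer M24 (fin 8394986) := gA_spec (by decide +kernel)

theorem gA2_spec : ∀ Q ∈ gA2, ok Q = true ∧ el Q ∈ GG ⊓ stabilizer M24 (fin 5279) := gA_spec (by decide +kernel)

theorem D0 : Dat 8388609 L0 8391797 where
  all := by decide +kernel
  okl := by decide +kernel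
  reach := reach_of_build gG_spec (st := s0) (by decide +kernel)
  hv := by norm_num
  nodup := by decide +kernel
  len := by decide +kernel
  hb := by decide +kernel

theorem D1 : Dat 8388610 L1 8394986 where
  all := by decide +kernel
  okl := by decide +kernel
  reach := reach_of_build gG_spec (st := s1) (by decide +kernel)
  hv := by norm_num
  nodup := by decide +kernel
  len := by decide +kernel
  hb := by decide +kernel

theorem D2 : Dat 3 L2 5279 where
  all := by decide +kernel
  okl := by decide +kernel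
  reach := reach_of_build gG_spec (st := s2) (by decide +kernel)
  hv := by norm_num
  nodup := by decide +kernel
  len := by decide +kernel
  hb := by decide +kernel

theorem cover_two {K : Subgroup M24} {gl : List ℕ} (hK : ∀ Q ∈ gl, ok Q = true ∧ el Q ∈ K) {l la lb : List ℕ}
    {a b : ℕ} {sa sb : List (ℕ × ℕ)} (ha : build gl a sa [a] = la) (hb : build gl b sb [b] = lb)
    (hl : (l.all fun m => la.any (fun x => Nat.beq x m) || lb.any (fun x => Nat.beq x m)) = true) :
    ∀ m ∈ l, ∃ i : Fin 2, Reach K (![a, b] i) m := by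
  intro m hm
  have h := List.all_eq_true.1 hl m hm
  rw [Bool.or_eq_true] at h
  rcases h with h | h
  · obtain ⟨x, hx, hx'⟩ := List.any_eq_true.1 h
    rw [← Nat.eq_of_beq_eq_true hx']
    exact ⟨0, reach_of_build hK ha x hx⟩
  · obtain ⟨x, hx, hx'⟩ := List.any_eq_true.1 h
    rw [← Nat.eq_of_beq_eq_true hx']
    exact ⟨1, reach_of_build hK hb x hx⟩

theorem cover_three {K : Subgroup M24} {gl : List ℕ} (hK : ∀ Q ∈ gl, ok Q = true ∧ el Q ∈ K) {l la lb : List ℕ}
    {a b c : ℕ} {sa sb : List (ℕ × ℕ)} (ha : build gl a sa [a] = la) (hb : build gl b sb [b] = lb)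
    (hl : (l.all fun m => la.any (fun x => Nat.beq x m) || lb.any (fun x => Nat.beq x m) || Nat.beq c m) = true) :
    ∀ m ∈ l, ∃ i : Fin 3, Reach K (![a, b, c] i) m := by
  intro m hm
  have h := List.all_eq_true.1 hl m hm
  rw [Bool.or_eq_true, Bool.or_eq_true] at h
  rcases h with (h | h) | h
  · obtain ⟨x, hx, hx'⟩ := List.any_eq_true.1 h
    rw [← Nat.eq_of_beq_eq_true hx']
    exact ⟨0, reach_of_build hK ha x hx⟩
  · obtain ⟨x, hx, hx'⟩ := List.any_eq_true.1 h
    rw [← Nat.eq_of_beq_eq_true hx']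
    exact ⟨1, reach_of_build hK hb x hx⟩
  · rw [← Nat.eq_of_beq_eq_true h]
    exact ⟨2, 1, K.one_mem, one_smul M24 _⟩

theorem rank00 : Nat.card (Quotient (orbitRel GG (X 8388609 × X 8388609))) ≤ 3 :=
  D0.rank_le D0 ![8412681, 8499969, 8391797] (by decide +kernel)
    (cover_three gA0_spec (sa := s00a) (sb := s00b) (la := L00a) (lb := L00b) (by decide +kernel) (by decide +kernel)
      (by decide +kernel))

theorem rank11 : Nat.card (Quotient (orbitRel GG (X 8388610 × X 8388610))) ≤ 3 :=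
  D1.rank_le D1 ![8407702, 8611330, 8394986] (by decide +kernel)
    (cover_three gA1_spec (sa := s11a) (sb := s11b) (la := L11a) (lb := L11b) (by decide +kernel) (by decide +kernel)
      (by decide +kernel))

theorem rank22 : Nat.card (Quotient (orbitRel GG (X 3 × X 3))) ≤ 3 :=
  D2.rank_le D2 ![18147, 352547, 5279] (by decide +kernel)
    (cover_three gA2_spec (sa := s22a) (sb := s22b) (la := L22a) (lb := L22b) (by decide +kernel) (by decide +kernel)
      (by decide +kernel))

theorem rank01 : Nat.card (Quotient (orbitRel GG (X 8388609 × X 8388610))) ≤ 2 :=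
  D0.rank_le D1 ![8394986, 8474906] (by decide +kernel)
    (cover_two gA0_spec (sa := s01a) (sb := s01b) (la := L01a) (lb := L01b) (by decide +kernel) (by decide +kernel)
      (by decide +kernel))

theorem rank02 : Nat.card (Quotient (orbitRel GG (X 8388609 × X 3))) ≤ 2 :=
  D0.rank_le D2 ![5279, 57883] (by decide +kernel)
    (cover_two gA0_spec (sa := s02a) (sb := s02b) (la := L02a) (lb := L02b) (by decide +kernel) (by decide +kernel)
      (by decide +kernel))

theorem rank12 : Nat.card (Quotient (orbitRel GG (X 8388610 × X 3))) ≤ 2 :=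
  D1.rank_le D2 ![5279, 57883] (by decide +kernel)
    (cover_two gA1_spec (sa := s12a) (sb := s12b) (la := L12a) (lb := L12b) (by decide +kernel) (by decide +kernel)
      (by decide +kernel))

theorem inc0 : 2 ≤ Nat.card (Quotient (orbitRel GG (X 8388609 × P))) :=
  D0.two_le (p := some 2) (q := some 3) (by decide) (by decide) (mem_fin.2 (by decide +kernel))
    (fun h => absurd (mem_fin.1 h) (by decide +kernel))

theorem inc1 : 2 ≤ Nat.card (Quotient (orbitRel GG (X 8388610 × P))) :=
  D1.two_le (p := some 3) (q := some 2) (by decide) (by decide) (mem_fin.2 (by decide +kernel))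
    (fun h => absurd (mem_fin.1 h) (by decide +kernel))

theorem inc2 : 2 ≤ Nat.card (Quotient (orbitRel GG (X 3 × P))) :=
  D2.two_le (p := some 2) (q := some 5) (by decide) (by decide) (mem_fin.2 (by decide +kernel))
    (fun h => absurd (mem_fin.1 h) (by decide +kernel))

end Cfsg.Agent.H345.K4.PSL34
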